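import Cfsg.Agent.S0304
import Cfsg.Agent.S0269
import Cfsg.Agent.S0246

/-!
# `Ω₇(q) ≅ PSp₆(q)`, `q` even (helper390, block 6)
-/

set_option autoImplicit false

namespace Cfsg.Agent.H376.Six

open Cfsg

/-- `Omega / Z` of a perfect group with trivial centre -/
theorem quot_of_perfect {X Y : Type*} [Group X] [Group Y] (e : X ≃* Y) (hc : commutator Y = ⊤)
    (hz : Subgroup.center Y = ⊥) : Nonempty (↥(commutator X) ⧸ Subgroup.center ↥(commutator X) ≃* Y) := by
  have h1 : commutator X = ⊤ := by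
    rw [eq_top_iff]
    intro x _
    have h2 : e x ∈ commutator Y := by rw [hc]; exact Subgroup.mem_top _
    have h3 : (commutator X).map e.toMonoidHom = commutator Y := by
      rw [map_commutator_eq, MonoidHom.range_eq_top.2 e.surjective]
      rfl
    rw [← h3] at h2
    obtain ⟨y, hy, hy'⟩ := h2
    have h4 : y = x := e.injective hy'
    rwa [h4] at hy
  have e1 : ↥(commutator X) ≃* Y := (MulEquiv.subgroupCongr h1).trans (Subgroup.topEquiv.trans e)
  have h5 : Subgroup.center ↥(commutator X) = ⊥ := by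
    rw [eq_bot_iff]
    intro x hx
    have h6 : e1 x ∈ Subgroup.center Y := by
      rw [Subgroup.mem_center_iff]
      intro y
      obtain ⟨z, rfl⟩ := e1.surjective y
      rw [← map_mul, ← map_mul, (Subgroup.mem_center_iff.1 hx) z]
    rw [hz, Subgroup.mem_bot] at h6
    rw [Subgroup.mem_bot]
    exact e1.injective (h6.trans (map_one e1).symm)
  exact ⟨(QuotientGroup.quotientMulEquivOfEq h5).trans (QuotientGroup.quotientBot.trans e1)⟩

/-- **`Ω_{2m+1}(q) ≅ PSp_{2m}(q)`, `q` even.** -/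
theorem odd_equiv_psp {F : Type*} [Field F] [Fintype F] [CharP F 2] {m : ℕ} (hm : 1 ≤ m)
    (hp : commutator (Matrix.symplecticGroup (Fin m) F) = ⊤) :
    Nonempty (POmega F (quadFormOdd m F) ≃* PSp m F) := by
  obtain ⟨e⟩ := Cfsg.Agent.S0304.result (F := F) m
  have h1 := Cfsg.Agent.S0246.result (F := F) rfl m hm
  have h2 : Nat.gcd 2 (Fintype.card F - 1) = 1 := by
    obtain ⟨n, -, hn⟩ := FiniteField.card F 2
    apply (Nat.Prime.coprime_iff_not_dvd Nat.prime_two).2
    have h3 : 2 ∣ Fintype.card F := by rw [hn]; exact dvd_pow_self 2 n.2.ne'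
    have h4 := Fintype.one_lt_card (α := F)
    omega
  rw [h2] at h1
  have h5 : Subgroup.center (Matrix.symplecticGroup (Fin m) F) = ⊥ := Subgroup.card_eq_one.1 h1
  obtain ⟨e2⟩ := quot_of_perfect e hp h5
  exact ⟨e2.trans ((QuotientGroup.quotientMulEquivOfEq h5).trans QuotientGroup.quotientBot).symm⟩

/-- `Ω₇(q) ≅ PSp₆(q)`, `q` even -/
theorem odd_equiv_psp_three {F : Type*} [Field F] [Fintype F] [CharP F 2] :
    Nonempty (POmega F (quadFormOdd 3 F) ≃* PSp 3 F) := by
  exact odd_equiv_psp (by norm_num) (Cfsg.Agent.S0269.result 3 (Or.inl le_rfl))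

end Cfsg.Agent.H376.Six
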