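import Cfsg.Agent.H376.Six.Elim
import Cfsg.Agent.H420.Reduce
import Cfsg.Agent.H424.ShultTwo

/-!
# The facts about the simple section (helper390, for block 6 of helper376)

* `e5_of_red`, `e2_of_red` : `E5 q S`, `E2 q S` from `X5 q G`, `X2 q G` and `Red G K S`;
* `X5.exists_red`, `X2.exists_red` : existence of the reduction.
-/

set_option autoImplicit false
set_option linter.unusedSectionVars false
set_option linter.unusedVariables false

namespace Cfsg.Agent.H376.Six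

open Subgroup Cfsg.Agent.H420.QR

universe u v

/-! ### Numbers -/

/-- a prime divisor of `ap q` dividing an element order -/
theorem X5.ub_ap {q : ℕ} {G : Type*} [Group G] (h : X5 q G) {r : ℕ} (hr : r.Prime) (hra : r ∣ ap q) (g : G)
    (hg : r ∣ orderOf g) : orderOf g ∣ (q ^ 3 - 1) / 2 := by
  obtain ⟨m, hm, hq⟩ := h.pow
  have hq5 : 5 ∣ q := by rw [hq]; exact dvd_pow_self 5 (by omega)
  have hq1 : 1 ≤ q := by rw [hq]; exact Nat.one_le_pow _ _ (by norm_num)
  have hq2 : 2 ≤ q := by have := Nat.le_of_dvd (by omega) hq5; omega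
  have hodd : q % 2 = 1 := by rw [hq, Nat.pow_mod]; norm_num
  obtain ⟨hr2, hr3, hrq⟩ := ap_ne hq2 hr hra
  have hr5 : r ≠ 5 := by rintro rfl; exact hrq hq5
  have hr5' : ¬ r ∣ 5 := fun h => hr5 ((Nat.prime_dvd_prime_iff_eq hr (by norm_num)).1 h)
  have hA : r ∣ (q ^ 3 - 1) / 2 := hra.trans (ap_dvd_half hq2 hodd)
  have h4 := ap_prime hq2 hr hra
  rcases h.ub g with h1 | h1 | h1 | h1 | h1 | h1
  · exact h1
  · exfalso
    have h2 := Nat.dvd_gcd hA (hg.trans h1)
    rw [coprime_half hodd] at h2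
    exact hr.one_lt.ne' (Nat.dvd_one.1 h2)
  · exfalso
    apply h4
    refine (hg.trans h1).trans ?_
    exact Nat.div_dvd_of_dvd (by
      have : (q : ℕ) ^ 4 - 1 = (q ^ 2 + 1) * ((q + 1) * (q - 1)) := by
        have h5 : q ^ 4 - 1 = (q ^ 2 + 1) * (q ^ 2 - 1) := by
          rw [show q ^ 4 = (q ^ 2) ^ 2 by ring, show ((q ^ 2) ^ 2 - 1) = (q ^ 2) ^ 2 - 1 ^ 2 by norm_num, Nat.sq_sub_sq]
        rw [h5, show q ^ 2 - 1 = q ^ 2 - 1 ^ 2 by norm_num, Nat.sq_sub_sq]
      rw [this]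
      have ha : 2 ∣ q + 1 := by omega
      have hb : 2 ∣ q - 1 := by omega
      exact Dvd.dvd.mul_left (mul_dvd_mul ha hb) _)
  · exfalso
    rcases hr.dvd_mul.1 (hg.trans h1) with h2 | h2
    · exact hr5' h2
    · exact h4 (h2.trans (sq_pm_dvd q).1)
  · exfalso
    rcases hr.dvd_mul.1 (hg.trans h1) with h2 | h2
    · exact hr5' h2
    · exact h4 (h2.trans (sq_pm_dvd q).2)
  · exfalso
    have h2 : r ∣ 5 ^ 2 := hg.trans h1
    exact hr5' (hr.dvd_of_dvd_pow h2)

/-- a prime divisor of `am q` dividing an element order -/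
theorem X5.ub_am {q : ℕ} {G : Type*} [Group G] (h : X5 q G) {r : ℕ} (hr : r.Prime) (hra : r ∣ am q) (g : G)
    (hg : r ∣ orderOf g) : orderOf g ∣ (q ^ 3 + 1) / 2 := by
  obtain ⟨m, hm, hq⟩ := h.pow
  have hq5 : 5 ∣ q := by rw [hq]; exact dvd_pow_self 5 (by omega)
  have hq1 : 1 ≤ q := by rw [hq]; exact Nat.one_le_pow _ _ (by norm_num)
  have hq2 : 2 ≤ q := by have := Nat.le_of_dvd (by omega) hq5; omega
  have hodd : q % 2 = 1 := by rw [hq, Nat.pow_mod]; norm_num
  obtain ⟨hr2, hr3, hrq⟩ := am_ne hq2 hr hra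
  have hr5 : r ≠ 5 := by rintro rfl; exact hrq hq5
  have hr5' : ¬ r ∣ 5 := fun h => hr5 ((Nat.prime_dvd_prime_iff_eq hr (by norm_num)).1 h)
  have hA : r ∣ (q ^ 3 + 1) / 2 := hra.trans (am_dvd_half hq2 hodd)
  have h4 := am_prime hq2 hr hra
  rcases h.ub g with h1 | h1 | h1 | h1 | h1 | h1
  · exfalso
    have h2 := Nat.dvd_gcd (hg.trans h1) hA
    rw [coprime_half hodd] at h2
    exact hr.one_lt.ne' (Nat.dvd_one.1 h2)
  · exact h1
  · exfalso
    apply h4
    refine (hg.trans h1).trans ?_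
    exact Nat.div_dvd_of_dvd (by
      have : (q : ℕ) ^ 4 - 1 = (q ^ 2 + 1) * ((q + 1) * (q - 1)) := by
        have h5 : q ^ 4 - 1 = (q ^ 2 + 1) * (q ^ 2 - 1) := by
          rw [show q ^ 4 = (q ^ 2) ^ 2 by ring, show ((q ^ 2) ^ 2 - 1) = (q ^ 2) ^ 2 - 1 ^ 2 by norm_num, Nat.sq_sub_sq]
        rw [h5, show q ^ 2 - 1 = q ^ 2 - 1 ^ 2 by norm_num, Nat.sq_sub_sq]
      rw [this]
      have ha : 2 ∣ q + 1 := by omega
      have hb : 2 ∣ q - 1 := by omega
      exact Dvd.dvd.mul_left (mul_dvd_mul ha hb) _)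
  · exfalso
    rcases hr.dvd_mul.1 (hg.trans h1) with h2 | h2
    · exact hr5' h2
    · exact h4 (h2.trans (sq_pm_dvd q).1)
  · exfalso
    rcases hr.dvd_mul.1 (hg.trans h1) with h2 | h2
    · exact hr5' h2
    · exact h4 (h2.trans (sq_pm_dvd q).2)
  · exfalso
    have h2 : r ∣ 5 ^ 2 := hg.trans h1
    exact hr5' (hr.dvd_of_dvd_pow h2)

/-- `q ^ 3 - 1` and `q ^ 3 + 1` are coprime, `q` even -/
theorem coprime_cube {q : ℕ} (h : q % 2 = 0) (hq : 2 ≤ q) : Nat.Coprime (q ^ 3 - 1) (q ^ 3 + 1) := by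
  have h0 : q ^ 3 % 2 = 0 := by rw [Nat.pow_mod, h]
  have h1 : 1 ≤ q ^ 3 := Nat.one_le_pow _ _ (by omega)
  have h2 : q ^ 3 + 1 = (q ^ 3 - 1) + 2 := by omega
  rw [h2, Nat.coprime_self_add_right, Nat.coprime_comm, Nat.Prime.coprime_iff_not_dvd Nat.prime_two]
  omega

theorem X2.ub_ap {q : ℕ} {G : Type*} [Group G] (h : X2 q G) {r : ℕ} (hr : r.Prime) (hra : r ∣ ap q) (g : G)
    (hg : r ∣ orderOf g) : orderOf g ∣ q ^ 3 - 1 := by
  obtain ⟨m, hm, hq⟩ := h.pow
  have hq1 : 4 ≤ q := by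
    rw [hq]
    calc 4 = 2 ^ 2 := by norm_num
      _ ≤ 2 ^ m := Nat.pow_le_pow_right (by norm_num) hm
  have hq2 : 2 ≤ q := by omega
  have heven : q % 2 = 0 := by rw [hq, Nat.pow_mod]; simp [show m ≠ 0 by omega]
  obtain ⟨hr2, hr3, hrq⟩ := ap_ne hq2 hr hra
  have hr2' : ¬ r ∣ 2 := fun h => hr2 ((Nat.prime_dvd_prime_iff_eq hr (by norm_num)).1 h)
  have hr4' : ¬ r ∣ 4 := fun h => hr2' (hr.dvd_of_dvd_pow (show r ∣ 2 ^ 2 from h))
  have hA : r ∣ q ^ 3 - 1 := hra.trans (ap_dvd_cube hq2)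
  have h4 := ap_prime hq2 hr hra
  rcases h.ub g with h1 | h1 | h1 | h1 | h1 | h1 | h1 | h1
  · exact h1
  · exfalso
    have h2 := Nat.dvd_gcd hA (hg.trans h1)
    rw [coprime_cube heven hq2] at h2
    exact hr.one_lt.ne' (Nat.dvd_one.1 h2)
  · exact absurd (hg.trans h1) h4
  · exfalso
    rcases hr.dvd_mul.1 (hg.trans h1) with h2 | h2
    · exact hr2' h2
    · exact h4 (h2.trans (sq_pm_dvd q).1)
  · exfalso
    rcases hr.dvd_mul.1 (hg.trans h1) with h2 | h2
    · exact hr2' h2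
    · exact h4 (h2.trans (sq_pm_dvd q).2)
  · exfalso
    rcases hr.dvd_mul.1 (hg.trans h1) with h2 | h2
    · exact hr4' h2
    · exact h4 (h2.trans (add_one_dvd q))
  · exfalso
    rcases hr.dvd_mul.1 (hg.trans h1) with h2 | h2
    · exact hr4' h2
    · exact h4 (h2.trans (one_dvd_pow q).1)
  · exact absurd (hr.dvd_of_dvd_pow (show r ∣ 2 ^ 3 from hg.trans h1)) hr2'

theorem X2.ub_am {q : ℕ} {G : Type*} [Group G] (h : X2 q G) {r : ℕ} (hr : r.Prime) (hra : r ∣ am q) (g : G)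
    (hg : r ∣ orderOf g) : orderOf g ∣ q ^ 3 + 1 := by
  obtain ⟨m, hm, hq⟩ := h.pow
  have hq1 : 4 ≤ q := by
    rw [hq]
    calc 4 = 2 ^ 2 := by norm_num
      _ ≤ 2 ^ m := Nat.pow_le_pow_right (by norm_num) hm
  have hq2 : 2 ≤ q := by omega
  have heven : q % 2 = 0 := by rw [hq, Nat.pow_mod]; simp [show m ≠ 0 by omega]
  obtain ⟨hr2, hr3, hrq⟩ := am_ne hq2 hr hra
  have hr2' : ¬ r ∣ 2 := fun h => hr2 ((Nat.prime_dvd_prime_iff_eq hr (by norm_num)).1 h)
  have hr4' : ¬ r ∣ 4 := fun h => hr2' (hr.dvd_of_dvd_pow (show r ∣ 2 ^ 2 from h))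
  have hA : r ∣ q ^ 3 + 1 := hra.trans (am_dvd_cube hq2)
  have h4 := am_prime hq2 hr hra
  rcases h.ub g with h1 | h1 | h1 | h1 | h1 | h1 | h1 | h1
  · exfalso
    have h2 := Nat.dvd_gcd (hg.trans h1) hA
    rw [coprime_cube heven hq2] at h2
    exact hr.one_lt.ne' (Nat.dvd_one.1 h2)
  · exact h1
  · exact absurd (hg.trans h1) h4
  · exfalso
    rcases hr.dvd_mul.1 (hg.trans h1) with h2 | h2
    · exact hr2' h2
    · exact h4 (h2.trans (sq_pm_dvd q).1)
  · exfalso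
    rcases hr.dvd_mul.1 (hg.trans h1) with h2 | h2
    · exact hr2' h2
    · exact h4 (h2.trans (sq_pm_dvd q).2)
  · exfalso
    rcases hr.dvd_mul.1 (hg.trans h1) with h2 | h2
    · exact hr4' h2
    · exact h4 (h2.trans (add_one_dvd q))
  · exfalso
    rcases hr.dvd_mul.1 (hg.trans h1) with h2 | h2
    · exact hr4' h2
    · exact h4 (h2.trans (one_dvd_pow q).1)
  · exact absurd (hr.dvd_of_dvd_pow (show r ∣ 2 ^ 3 from hg.trans h1)) hr2'


/-! ### Elements of `S` -/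

/-- an element order coprime to `|K| |G/K : S|` is an element order of `S` -/
theorem order_of_coprime {G : Type u} [Group G] [Finite G] {K : Subgroup G} [K.Normal] {S : Subgroup (G ⧸ K)}
    [S.Normal] {n : ℕ} (hx : ∃ g : G, orderOf g = n) (hc : n.Coprime (Nat.card ↥K * S.index)) :
    ∃ x : ↥S, orderOf x = n := by
  obtain ⟨g, hg⟩ := hx
  set f := QuotientGroup.mk' K with hf
  have hcK : n.Coprime (Nat.card ↥K) := hc.coprime_dvd_right (dvd_mul_right _ _)
  have hcI : n.Coprime S.index := hc.coprime_dvd_right (dvd_mul_left _ _)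
  have h1 : orderOf (f g) = n := by
    apply Nat.dvd_antisymm
    · rw [← hg]; exact orderOf_map_dvd f g
    · rw [← hg]
      apply orderOf_dvd_of_pow_eq_one
      have hm : g ^ orderOf (f g) ∈ K := by
        rw [← QuotientGroup.eq_one_iff]
        change f (g ^ orderOf (f g)) = 1
        rw [map_pow, pow_orderOf_eq_one]
      have h2 : orderOf (g ^ orderOf (f g)) ∣ Nat.card ↥K := Subgroup.orderOf_dvd_natCard K hm
      have h3 : orderOf (g ^ orderOf (f g)) ∣ n := by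
        rw [← hg]; exact orderOf_pow_dvd _
      have h4 := Nat.dvd_gcd h3 h2
      rw [hcK, Nat.dvd_one, orderOf_eq_one_iff] at h4
      exact h4
  have h2 : f g ^ S.index ∈ S := S.pow_index_mem (f g)
  refine ⟨⟨f g ^ S.index, h2⟩, ?_⟩
  rw [← Subgroup.orderOf_coe]
  change orderOf (f g ^ S.index) = n
  rw [Nat.Coprime.orderOf_pow, h1]
  rw [h1]
  exact hcI

/-- an element order of `S` divides an element order of `G` -/
theorem order_lift {G : Type u} [Group G] {K : Subgroup G} [K.Normal] {S : Subgroup (G ⧸ K)}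
    (x : ↥S) : ∃ g : G, orderOf x ∣ orderOf g := by
  obtain ⟨y, hy⟩ := QuotientGroup.mk'_surjective K (x : G ⧸ K)
  refine ⟨y, ?_⟩
  rw [← Subgroup.orderOf_coe, ← hy]
  exact orderOf_map_dvd _ y

/-- the index of `S` divides the order of `Out S` -/
theorem index_dvd_out {X : Type u} [Group X] [Finite X] (S : Subgroup X) [S.Normal]
    (hS : Subgroup.centralizer (S : Set X) = ⊥) : S.index ∣ Nat.card (Cfsg.Out ↥S) := by
  let f : X →* Cfsg.Out ↥S := (QuotientGroup.mk' (Cfsg.Inn ↥S)).comp (MulAut.conjNormal : X →* MulAut ↥S)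
  have hker : f.ker ≤ S := by
    intro g hg
    rw [MonoidHom.mem_ker] at hg
    have h1 : (QuotientGroup.mk' (Cfsg.Inn ↥S)) ((MulAut.conjNormal : X →* MulAut ↥S) g) = 1 := hg
    rw [QuotientGroup.mk'_apply, QuotientGroup.eq_one_iff] at h1
    obtain ⟨s, hs⟩ := h1
    have h2 : (s : X)⁻¹ * g ∈ Subgroup.centralizer (S : Set X) := by
      rw [Subgroup.mem_centralizer_iff]
      intro y hy
      have h3 := congrArg Subtype.val (DFunLike.congr_fun hs (⟨y, hy⟩ : ↥S))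
      have h4 : (s : X) * y * (s : X)⁻¹ = g * y * g⁻¹ := h3
      calc y * ((s : X)⁻¹ * g) = (s : X)⁻¹ * ((s : X) * y * (s : X)⁻¹) * g := by group
        _ = (s : X)⁻¹ * (g * y * g⁻¹) * g := by rw [h4]
        _ = (s : X)⁻¹ * g * y := by group
    rw [hS, Subgroup.mem_bot, inv_mul_eq_one] at h2
    rw [← h2]
    exact s.2
  have h1 : S.index ∣ f.ker.index := Subgroup.index_dvd_of_le hker
  rw [Subgroup.index_ker] at h1
  exact h1.trans (Subgroup.card_subgroup_dvd_card _)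

/-- `r ≡ 1 mod 3` -/
theorem three_dvd_of_root {r : ℕ} (hr : r.Prime) (h3 : r ≠ 3) {a : ZMod r} (h : a ^ 2 + a + 1 = 0) :
    3 ∣ r - 1 := by
  haveI := Fact.mk hr
  have h1 : a ^ 3 = 1 := by linear_combination (a - 1) * h
  have h2 : a ≠ 1 := by
    rintro rfl
    have h4 : ((3 : ℕ) : ZMod r) = 0 := by push_cast; linear_combination h
    rw [ZMod.natCast_eq_zero_iff] at h4
    exact h3 ((Nat.prime_dvd_prime_iff_eq hr Nat.prime_three).1 h4)
  have h4 : orderOf a = 3 := orderOf_eq_prime h1 h2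
  have h5 : a ≠ 0 := by rintro rfl; simp at h
  rw [← h4]
  exact ZMod.orderOf_dvd_card_sub_one h5

theorem three_dvd_sub_one {q r : ℕ} (hq : 2 ≤ q) (hr : r.Prime) (h : r ∣ ap q * am q) : 3 ∣ r - 1 := by
  rcases hr.dvd_mul.1 h with h | h
  · apply three_dvd_of_root hr (ap_ne hq hr h).2.1 (a := ((q : ℤ) : ZMod r))
    have h1 := (ZMod.intCast_zmod_eq_zero_iff_dvd ((q : ℤ) ^ 2 + q + 1) r).2 (ap_dvd_int hq h)
    push_cast at h1 ⊢
    exact h1
  · apply three_dvd_of_root hr (am_ne hq hr h).2.1 (a := -((q : ℤ) : ZMod r))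
    have h1 := (ZMod.intCast_zmod_eq_zero_iff_dvd ((q : ℤ) ^ 2 - q + 1) r).2 (am_dvd_int hq h)
    push_cast at h1 ⊢
    linear_combination h1

/-- **The covering step.** -/
theorem noFrob_of {G : Type u} [Group G] [Finite G] {K : Subgroup G} [K.Normal] {S : Subgroup (G ⧸ K)}
    [S.Normal] (hK : Group.IsSolvable ↥K) (hS : IsSimpleGroup ↥S) {q c : ℕ} (hq : 2 ≤ q) (hc : c.Prime)
    (hcK : c ∣ Nat.card ↥K)
    (hr : ∀ r : ℕ, r.Prime → r ∣ ap q * am q → ¬ r ∣ Nat.card ↥K ∧ ¬ ∃ g : G, orderOf g = c * r) :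
    NoFrob c q ↥S := by
  intro r hrp hra t ht htc htr U hU y hy hn u hu
  obtain ⟨hrK, hno⟩ := hr r hrp hra
  have hrp3 : r ≠ 2 ∧ r ≠ 3 := by
    rcases hrp.dvd_mul.1 hra with h | h
    · exact ⟨(ap_ne hq hrp h).1, (ap_ne hq hrp h).2.1⟩
    · exact ⟨(am_ne hq hrp h).1, (am_ne hq hrp h).2.1⟩
  have hcr : c ≠ r := by
    rintro rfl
    exact hrK hcK
  by_contra hcomm
  apply hno
  have hyU : y ∈ Subgroup.normalizer (U : Set ↥S) := by
    have h1 : ∀ n : ℕ, ∀ w ∈ U, y ^ n * w * (y ^ n)⁻¹ ∈ U := by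
      intro n
      induction n with
      | zero => intro w hw; simpa using hw
      | succ n ih =>
        intro w hw
        have h2 : y ^ (n + 1) * w * (y ^ (n + 1))⁻¹ = y * (y ^ n * w * (y ^ n)⁻¹) * y⁻¹ := by
          rw [pow_succ']
          group
        rw [h2]
        exact hn _ (ih w hw)
    rw [Subgroup.mem_normalizer_iff]
    intro w
    constructor
    · exact hn w
    · intro hw
      have h3 := h1 (r - 1) _ hw
      have h4 : y ^ (r - 1) * y = 1 := by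
        rw [← pow_succ, Nat.sub_add_cancel hrp.one_lt.le, ← hy, pow_orderOf_eq_one]
      have h5 : y ^ (r - 1) = y⁻¹ := eq_inv_of_mul_eq_one_left h4
      have h6 : y ^ (r - 1) * (y * w * y⁻¹) * (y ^ (r - 1))⁻¹ = w := by
        rw [h5]
        group
      rw [h6] at h3
      exact h3
  by_cases ht2 : t = 2
  · subst ht2
    refine Cfsg.Agent.H424.ShultTwo.exists_orderOf_mul_two K hK S hS hc hrp hrp3.1 (Ne.symm htc) hcr ?_ hcK hrK U hU
      y hy hyU hu hcomm
    -- `3 ∣ r - 1`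
    intro n hn2
    have h3 : 3 ∣ r - 1 := three_dvd_sub_one hq hrp hra
    have h4 : 3 ∣ 2 ^ n := (dvd_pow h3 (by norm_num)).trans hn2
    have h5 := Nat.prime_three.dvd_of_dvd_pow h4
    omega
  · exact Cfsg.Agent.H376.Shult.exists_orderOf_mul K hK S hS hc hrp ht hrp3.1 ht2 hcr (Ne.symm htc) htr hcK hrK U hU
      y hy hyU hu hcomm


/-- a common prime divisor of `q² + 1` and `q³ ∓ 1` is `2` -/
theorem sq_cube {q t : ℕ} (hq : 1 ≤ q) (ht : t.Prime) (h1 : t ∣ q ^ 2 + 1)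
    (h2 : t ∣ q ^ 3 - 1 ∨ t ∣ q ^ 3 + 1) : t = 2 := by
  have h3 : (t : ℤ) ∣ (q : ℤ) ^ 2 + 1 := by exact_mod_cast h1
  have h5 : (t : ℤ) ∣ 2 := by
    rcases h2 with h2 | h2
    · have h4 : (t : ℤ) ∣ (q : ℤ) ^ 3 - 1 := by
        have h6 : ((q ^ 3 - 1 : ℕ) : ℤ) = (q : ℤ) ^ 3 - 1 := by
          rw [Nat.cast_sub (Nat.one_le_pow _ _ hq)]; norm_num
        rw [← h6]
        exact_mod_cast h2
      have := Dvd.dvd.linear_comb h3 h4 ((q : ℤ) * (1 - q) + 1) ((q : ℤ) - 1)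
      have h7 : ((q : ℤ) * (1 - q) + 1) * ((q : ℤ) ^ 2 + 1) + ((q : ℤ) - 1) * ((q : ℤ) ^ 3 - 1) = 2 := by ring
      rwa [h7] at this
    · have h4 : (t : ℤ) ∣ (q : ℤ) ^ 3 + 1 := by exact_mod_cast h2
      have := Dvd.dvd.linear_comb h3 h4 (1 - (q : ℤ) * (q + 1)) ((q : ℤ) + 1)
      have h7 : (1 - (q : ℤ) * (q + 1)) * ((q : ℤ) ^ 2 + 1) + ((q : ℤ) + 1) * ((q : ℤ) ^ 3 + 1) = 2 := by ring
      rwa [h7] at this
  exact (Nat.prime_dvd_prime_iff_eq ht Nat.prime_two).1 (by exact_mod_cast h5)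

/-- the size of `q`, `q = 5 ^ m` -/
theorem X5.five_le {q : ℕ} {G : Type*} [Group G] (h : X5 q G) : 5 ≤ q ∧ 5 ∣ q ∧ q % 4 = 1 := by
  obtain ⟨m, hm, hq⟩ := h.pow
  refine ⟨?_, ?_, ?_⟩
  · rw [hq]
    calc 5 = 5 ^ 1 := by norm_num
      _ ≤ 5 ^ m := Nat.pow_le_pow_right (by norm_num) hm
  · rw [hq]; exact dvd_pow_self 5 (by omega)
  · rw [hq, Nat.pow_mod]; norm_num

theorem X2.four_le {q : ℕ} {G : Type*} [Group G] (h : X2 q G) : 4 ≤ q ∧ 4 ∣ q ∧ ¬ 3 ∣ q := by
  obtain ⟨m, hm, hq⟩ := h.pow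
  refine ⟨?_, ?_, ?_⟩
  · rw [hq]
    calc 4 = 2 ^ 2 := by norm_num
      _ ≤ 2 ^ m := Nat.pow_le_pow_right (by norm_num) hm
  · rw [hq]; exact pow_dvd_pow 2 hm
  · rw [hq]
    intro h3
    have := Nat.prime_three.dvd_of_dvd_pow h3
    omega

theorem exists_ap {q : ℕ} (hq : 4 ≤ q) : ∃ r : ℕ, r.Prime ∧ r ∣ ap q := by
  have h1 := three_ap (q := q) (by omega)
  exact ⟨_, Nat.minFac_prime (by nlinarith), Nat.minFac_dvd _⟩

theorem exists_am {q : ℕ} (hq : 4 ≤ q) : ∃ r : ℕ, r.Prime ∧ r ∣ am q := by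
  have h1 := three_am (q := q) (by omega)
  have h2 : 4 * q ≤ q ^ 2 := by nlinarith
  refine ⟨_, Nat.minFac_prime (n := am q) ?_, Nat.minFac_dvd _⟩
  intro h3
  rw [h3] at h1
  omega

theorem dvd_card_of_order {G : Type*} [Group G] {n r : ℕ} (h : ∃ g : G, orderOf g = n) (hr : r ∣ n) :
    r ∣ Nat.card G := by
  obtain ⟨g, rfl⟩ := h
  exact hr.trans (orderOf_dvd_natCard g)

/-- divisors of element orders are element orders -/
theorem order_of_dvd {G : Type*} [Group G] [Finite G] {n m : ℕ} (h : ∃ g : G, orderOf g = n) (hm : m ∣ n) :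
    ∃ g : G, orderOf g = m := by
  obtain ⟨g, rfl⟩ := h
  obtain ⟨k, hk⟩ := hm
  have hk0 : k ≠ 0 := by
    rintro rfl
    rw [mul_zero] at hk
    exact (orderOf_pos g).ne' hk
  refine ⟨g ^ k, ?_⟩
  rw [orderOf_pow_of_dvd hk0 ⟨m, by rw [hk, mul_comm]⟩, hk, Nat.mul_div_cancel _ (Nat.pos_of_ne_zero hk0)]

section five

variable {q : ℕ} {G : Type u} [Group G] (hG : X5 q G)

include hG

theorem X5.dvd_ap {r : ℕ} (hr : r ∣ ap q) : r ∣ Nat.card G :=
  dvd_card_of_order hG.a (hr.trans (ap_dvd_half (by have := hG.five_le; omega) (by have := hG.five_le; omega)))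

theorem X5.dvd_am {r : ℕ} (hr : r ∣ am q) : r ∣ Nat.card G :=
  dvd_card_of_order hG.b (hr.trans (am_dvd_half (by have := hG.five_le; omega) (by have := hG.five_le; omega)))

theorem X5.no_pm {r s : ℕ} (hr : r.Prime) (hs : s.Prime) (hra : r ∣ ap q) (hsa : s ∣ am q) :
    r ≠ s ∧ ¬ ∃ g : G, orderOf g = r * s := by
  have h5 := hG.five_le
  have key : r ∣ (q ^ 3 - 1) / 2 ∧ ¬ s ∣ (q ^ 3 - 1) / 2 := by
    refine ⟨hra.trans (ap_dvd_half (by omega) (by omega)), fun h => ?_⟩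
    have h1 := Nat.dvd_gcd h (hsa.trans (am_dvd_half (by omega) (by omega)))
    rw [coprime_half (by omega)] at h1
    exact hs.one_lt.ne' (Nat.dvd_one.1 h1)
  refine ⟨?_, ?_⟩
  · rintro rfl
    exact key.2 key.1
  · rintro ⟨g, hg⟩
    have h1 := hG.ub_ap hr hra g (by rw [hg]; exact dvd_mul_right _ _)
    rw [hg] at h1
    exact key.2 ((dvd_mul_left _ _).trans h1)

theorem X5.no_five_ap {r : ℕ} (hr : r.Prime) (hra : r ∣ ap q) : 5 ≠ r ∧ ¬ ∃ g : G, orderOf g = 5 * r := by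
  have h5 := hG.five_le
  refine ⟨?_, ?_⟩
  · rintro rfl
    exact (ap_ne (by omega) hr hra).2.2 h5.2.1
  · rintro ⟨g, hg⟩
    have h1 := hG.ub_ap hr hra g (by rw [hg]; exact dvd_mul_left _ _)
    rw [hg] at h1
    have h2 : 5 ∣ q ^ 3 - 1 := (dvd_mul_right 5 r).trans (h1.trans (Nat.div_dvd_of_dvd (by
      have : q ^ 3 % 2 = 1 := by rw [Nat.pow_mod, show q % 2 = 1 by omega]
      omega)))
    have h3 : 5 ∣ q ^ 3 := dvd_pow h5.2.1 (by norm_num)
    have h4 : 1 ≤ q ^ 3 := Nat.one_le_pow _ _ (by omega)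
    omega

theorem X5.no_five_am {r : ℕ} (hr : r.Prime) (hra : r ∣ am q) : 5 ≠ r ∧ ¬ ∃ g : G, orderOf g = 5 * r := by
  have h5 := hG.five_le
  refine ⟨?_, ?_⟩
  · rintro rfl
    exact (am_ne (by omega) hr hra).2.2 h5.2.1
  · rintro ⟨g, hg⟩
    have h1 := hG.ub_am hr hra g (by rw [hg]; exact dvd_mul_left _ _)
    rw [hg] at h1
    have h2 : 5 ∣ q ^ 3 + 1 := (dvd_mul_right 5 r).trans (h1.trans (Nat.div_dvd_of_dvd (by
      have : q ^ 3 % 2 = 1 := by rw [Nat.pow_mod, show q % 2 = 1 by omega]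
      omega)))
    have h3 : 5 ∣ q ^ 3 := dvd_pow h5.2.1 (by norm_num)
    omega

theorem X5.no_two_am {r : ℕ} (hr : r.Prime) (hra : r ∣ am q) : ¬ ∃ g : G, orderOf g = 2 * r := by
  have h5 := hG.five_le
  rintro ⟨g, hg⟩
  have h1 := hG.ub_am hr hra g (by rw [hg]; exact dvd_mul_left _ _)
  rw [hg] at h1
  have h2 : 2 ∣ (q ^ 3 + 1) / 2 := (dvd_mul_right 2 r).trans h1
  have h3 : q ^ 3 % 4 = 1 := by rw [Nat.pow_mod, h5.2.2]
  omega

theorem X5.sq_odd : (q ^ 2 + 1) / 2 % 2 = 1 ∧ 2 ∣ q ^ 2 + 1 := by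
  have h5 := hG.five_le
  have h3 : q ^ 2 % 4 = 1 := by rw [Nat.pow_mod, h5.2.2]
  omega

theorem X5.no_four {r t : ℕ} (hr : r.Prime) (ht : t.Prime) (hra : r ∣ ap q * am q) (hta : t ∣ (q ^ 2 + 1) / 2) :
    r ≠ t ∧ ¬ ∃ g : G, orderOf g = r * t := by
  have h5 := hG.five_le
  have hsq := hG.sq_odd
  have ht2 : t ≠ 2 := by
    rintro rfl
    omega
  have ht1 : t ∣ q ^ 2 + 1 := hta.trans (Nat.div_dvd_of_dvd hsq.2)
  have h30 : 2 ∣ q ^ 3 - 1 ∧ 2 ∣ q ^ 3 + 1 := by
    have : q ^ 3 % 2 = 1 := by rw [Nat.pow_mod, show q % 2 = 1 by omega]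
    omega
  refine ⟨?_, ?_⟩
  · rintro rfl
    rcases hr.dvd_mul.1 hra with h | h
    · exact ap_prime (by omega) hr h (ht1.trans (sq_pm_dvd q).1)
    · exact am_prime (by omega) hr h (ht1.trans (sq_pm_dvd q).1)
  · rintro ⟨g, hg⟩
    apply ht2
    rcases hr.dvd_mul.1 hra with h | h
    · have h1 := hG.ub_ap hr h g (by rw [hg]; exact dvd_mul_right _ _)
      rw [hg] at h1
      exact sq_cube (by omega) ht ht1 (Or.inl (((dvd_mul_left _ _).trans h1).trans (Nat.div_dvd_of_dvd h30.1)))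
    · have h1 := hG.ub_am hr h g (by rw [hg]; exact dvd_mul_right _ _)
      rw [hg] at h1
      exact sq_cube (by omega) ht ht1 (Or.inr (((dvd_mul_left _ _).trans h1).trans (Nat.div_dvd_of_dvd h30.2)))

theorem X5.coq {r s : ℕ} (hr : r.Prime) (hs : s.Prime) (hra : r ∣ ap q) (hsa : s ∣ am q) :
    IsCoq G {5, r, s} ∧ ({5, r, s} : Finset ℕ).card = 3 := by
  have h1 := hG.no_pm hr hs hra hsa
  have h2 := hG.no_five_ap hr hra
  have h3 := hG.no_five_am hs hsa
  refine ⟨⟨?_, ?_, ?_⟩, ?_⟩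
  · intro x hx
    simp only [Finset.mem_insert, Finset.mem_singleton] at hx
    rcases hx with rfl | rfl | rfl
    exacts [by norm_num, hr, hs]
  · intro x hx
    simp only [Finset.mem_insert, Finset.mem_singleton] at hx
    rcases hx with rfl | rfl | rfl
    exacts [dvd_card_of_order hG.d (by norm_num), hG.dvd_ap hra, hG.dvd_am hsa]
  · intro x hx y hy hxy
    simp only [Finset.mem_insert, Finset.mem_singleton] at hx hy
    rcases hx with rfl | rfl | rfl <;> rcases hy with rfl | rfl | rfl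
    · exact absurd rfl hxy
    · exact h2.2
    · exact h3.2
    · rw [mul_comm]; exact h2.2
    · exact absurd rfl hxy
    · exact h1.2
    · rw [mul_comm]; exact h3.2
    · rw [mul_comm]; exact h1.2
    · exact absurd rfl hxy
  · rw [Finset.card_insert_of_notMem (by simp [h2.1, h3.1]), Finset.card_insert_of_notMem (by simp [h1.1]),
      Finset.card_singleton]

theorem X5.coq' {r s t : ℕ} (hr : r.Prime) (hs : s.Prime) (ht : t.Prime) (hra : r ∣ ap q) (hsa : s ∣ am q)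
    (hta : t ∣ (q ^ 2 + 1) / 2) : IsCoq G {t, r, s} ∧ ({t, r, s} : Finset ℕ).card = 3 := by
  have h1 := hG.no_pm hr hs hra hsa
  have h2 := hG.no_four hr ht (hra.mul_right _) hta
  have h3 := hG.no_four hs ht (hsa.mul_left _) hta
  refine ⟨⟨?_, ?_, ?_⟩, ?_⟩
  · intro x hx
    simp only [Finset.mem_insert, Finset.mem_singleton] at hx
    rcases hx with rfl | rfl | rfl
    exacts [ht, hr, hs]
  · intro x hx
    simp only [Finset.mem_insert, Finset.mem_singleton] at hx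
    rcases hx with rfl | rfl | rfl
    exacts [dvd_card_of_order hG.c hta, hG.dvd_ap hra, hG.dvd_am hsa]
  · intro x hx y hy hxy
    simp only [Finset.mem_insert, Finset.mem_singleton] at hx hy
    rcases hx with rfl | rfl | rfl <;> rcases hy with rfl | rfl | rfl
    · exact absurd rfl hxy
    · rw [mul_comm]; exact h2.2
    · rw [mul_comm]; exact h3.2
    · exact h2.2
    · exact absurd rfl hxy
    · exact h1.2
    · exact h3.2
    · rw [mul_comm]; exact h1.2
    · exact absurd rfl hxy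
  · rw [Finset.card_insert_of_notMem (by simp [h2.1.symm, h3.1.symm]), Finset.card_insert_of_notMem (by simp [h1.1]),
      Finset.card_singleton]

/-- existence of the reduction -/
theorem X5.exists_red [Finite G] :
    ∃ (K : Subgroup G) (_ : K.Normal) (S : Subgroup (G ⧸ K)) (_ : S.Normal), Red G K S := by
  have h5 := hG.five_le
  obtain ⟨r, hr, hra⟩ := exists_ap (q := q) (by omega)
  obtain ⟨s, hs, hsa⟩ := exists_am (q := q) (by omega)
  obtain ⟨h1, h2⟩ := hG.coq hr hs hra hsa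
  exact Cfsg.Agent.H420.QR.exists_red h1 h2.ge ⟨s, hs, (am_ne (by omega) hs hsa).1, hG.dvd_am hsa, hG.no_two_am hs hsa⟩

/-- **The facts about `S`, `q = 5 ^ m`.** -/
theorem e5_of_red [Finite G] {K : Subgroup G} [K.Normal] {S : Subgroup (G ⧸ K)} [S.Normal] (h : Red G K S) :
    E5 q ↥S := by
  have h5 := hG.five_le
  have hcardG := card_eq_mul (K := K) (S := S)
  have hout := index_dvd_out S h.cent
  obtain ⟨r, hr, hra⟩ := exists_ap (q := q) (by omega)
  obtain ⟨s, hs, hsa⟩ := exists_am (q := q) (by omega)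
  -- if `c ∣ |K| |G/K : S|`, then the prime divisors of `ap q`, `am q` do not divide it
  have key : ∀ c : ℕ, c.Prime → c ∣ Nat.card ↥K * S.index → (c = 5 ∨ c ∣ (q ^ 2 + 1) / 2) →
      ∀ x : ℕ, x.Prime → x ∣ ap q * am q → ¬ x ∣ Nat.card ↥K * S.index ∧ ¬ ∃ g : G, orderOf g = c * x := by
    intro c hc hcK hc' x hx hxa
    -- general: `{c, r, s}` coclique
    have hco : ∀ y z : ℕ, y.Prime → z.Prime → y ∣ ap q → z ∣ am q →
        IsCoq G {c, y, z} ∧ ({c, y, z} : Finset ℕ).card = 3 := by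
      intro y z hy hz hya hza
      rcases hc' with rfl | hc'
      · exact hG.coq hy hz hya hza
      · exact hG.coq' hy hz hc hya hza hc'
    rcases hx.dvd_mul.1 hxa with hxa | hxa
    · obtain ⟨h1, h2⟩ := hco x s hx hs hxa hsa
      have hne : c ≠ x := by
        rintro rfl
        simp only [Finset.mem_insert, Finset.mem_singleton, true_or, or_true, Finset.insert_eq_of_mem] at h2
        have := Finset.card_le_two (a := c) (b := s)
        omega
      refine ⟨fun hd => hne ?_, h1.nadj c (by simp) x (by simp) hne⟩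
      exact h.coc' _ h1 h2.ge c (by simp) x (by simp) hcK hd
    · obtain ⟨h1, h2⟩ := hco r x hr hx hra hxa
      have hne : c ≠ x := by
        rintro rfl
        rw [show ({c, r, c} : Finset ℕ) = {c, r} by ext y; simp; tauto] at h2
        have := Finset.card_le_two (a := c) (b := r)
        omega
      refine ⟨fun hd => hne ?_, h1.nadj c (by simp) x (by simp) hne⟩
      exact h.coc' _ h1 h2.ge c (by simp) x (by simp) hcK hd
  have hord : ∀ c : ℕ, c.Prime → c ∣ Nat.card ↥K * S.index → (c = 5 ∨ c ∣ (q ^ 2 + 1) / 2) →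
      (∃ x : ↥S, orderOf x = ap q) ∧ (∃ x : ↥S, orderOf x = am q) := by
    intro c hc hcK hc'
    have hk := key c hc hcK hc'
    refine ⟨order_of_coprime ?_ ?_, order_of_coprime ?_ ?_⟩
    · exact order_of_dvd hG.a (ap_dvd_half (q := q) (by omega) (by omega))
    · apply Nat.coprime_of_dvd
      intro x hx h1 h2
      exact (hk x hx (h1.mul_right _)).1 h2
    · exact order_of_dvd hG.b (am_dvd_half (q := q) (by omega) (by omega))
    · apply Nat.coprime_of_dvd
      intro x hx h1 h2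
      exact (hk x hx (h1.mul_left _)).1 h2
  have hno : ∀ c : ℕ, c.Prime → c ∣ Nat.card ↥K → (c = 5 ∨ c ∣ (q ^ 2 + 1) / 2) → NoFrob c q ↥S := by
    intro c hc hcK hc'
    refine noFrob_of h.solv h.simple (by omega) hc hcK fun x hx hxa => ?_
    have h1 := key c hc (hcK.mul_right _) hc' x hx hxa
    exact ⟨fun h2 => h1.1 (h2.mul_right _), h1.2⟩
  -- a prime dividing the order of `G` and not that of `S`
  have hdvd : ∀ c : ℕ, c.Prime → c ∣ Nat.card G → ¬ c ∣ Nat.card ↥S → c ∣ Nat.card ↥K * S.index := by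
    intro c hc h1 h2
    rw [hcardG] at h1
    exact (hc.dvd_mul.1 h1).resolve_left h2
  refine ⟨hG.pow, ?_, ?_, ?_, ?_, ?_, ?_, ?_⟩
  · intro x
    obtain ⟨g, hg⟩ := order_lift (K := K) (S := S) x
    rcases hG.ub g with h1 | h1 | h1 | h1 | h1 | h1
    · exact Or.inl (hg.trans h1)
    · exact Or.inr (Or.inl (hg.trans h1))
    · exact Or.inr (Or.inr (Or.inl (hg.trans h1)))
    · exact Or.inr (Or.inr (Or.inr (Or.inl (hg.trans h1))))
    · exact Or.inr (Or.inr (Or.inr (Or.inr (Or.inl (hg.trans h1)))))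
    · exact Or.inr (Or.inr (Or.inr (Or.inr (Or.inr (hg.trans h1)))))
  · rcases h.two with h1 | h1
    · exact Or.inl h1
    · right
      refine order_of_coprime (order_of_dvd hG.b (am_dvd_half (q := q) (by omega) (by omega))) ?_
      apply Nat.coprime_of_dvd
      intro x hx h2 h3
      obtain ⟨h4, h6, h7⟩ := h1 x hx (am_ne (by omega) hx h2).1 (hG.dvd_am h2) (hG.no_two_am hx h2)
      rcases hx.dvd_mul.1 h3 with h8 | h8
      · exact h6 h8
      · exact h7 h8
  · by_cases h1 : 5 ∣ Nat.card ↥K * S.index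
    · left
      obtain ⟨h2, h3⟩ := hord 5 (by norm_num) h1 (Or.inl rfl)
      refine ⟨h2, h3, ?_⟩
      by_cases h4 : 5 ∣ Nat.card ↥K
      · exact Or.inl (hno 5 (by norm_num) h4 (Or.inl rfl))
      · exact Or.inr (((Nat.Prime.dvd_mul (by norm_num)).1 h1).resolve_left h4 |>.trans hout)
    · right
      refine order_of_coprime hG.d ?_
      have h2 := (Nat.Prime.coprime_iff_not_dvd (by norm_num : Nat.Prime 5)).2 h1
      exact Nat.Coprime.pow_left 2 h2
  · intro x y hx hy hxa hya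
    obtain ⟨h1, h2⟩ := hG.coq hx hy hxa hya
    by_contra hcon
    push Not at hcon
    have := h.coc h1 h2.ge (r := x) (s := y) (by simp) (by simp) hcon.1 hcon.2
    exact (hG.no_pm hx hy hxa hya).1 this
  · intro x y hx hy hxa hya
    obtain ⟨h1, h2⟩ := hG.coq' hx hs hy hxa hsa hya
    by_contra hcon
    push Not at hcon
    have := h.coc h1 h2.ge (r := x) (s := y) (by simp) (by simp) hcon.1 hcon.2
    exact (hG.no_four hx hy (hxa.mul_right _) hya).1 this
  · intro x y hx hy hxa hya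
    obtain ⟨h1, h2⟩ := hG.coq' hr hx hy hra hxa hya
    by_contra hcon
    push Not at hcon
    have := h.coc h1 h2.ge (r := x) (s := y) (by simp) (by simp) hcon.1 hcon.2
    exact (hG.no_four hx hy (hxa.mul_left _) hya).1 this
  · intro t ht hta htS htO
    have h1 := hdvd t ht (dvd_card_of_order hG.c hta) htS
    have h2 : t ∣ Nat.card ↥K := (ht.dvd_mul.1 h1).resolve_right fun h3 => htO (h3.trans hout)
    obtain ⟨h3, h4⟩ := hord t ht h1 (Or.inr hta)
    exact ⟨h3, h4, hno t ht h2 (Or.inr hta)⟩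

end five

section two

variable {q : ℕ} {G : Type u} [Group G] (hG : X2 q G)

include hG

theorem X2.dvd_ap {r : ℕ} (hr : r ∣ ap q) : r ∣ Nat.card G :=
  dvd_card_of_order hG.a (hr.trans (ap_dvd_cube (by have := hG.four_le; omega)))

theorem X2.dvd_am {r : ℕ} (hr : r ∣ am q) : r ∣ Nat.card G :=
  dvd_card_of_order hG.b (hr.trans (am_dvd_cube (by have := hG.four_le; omega)))

theorem X2.no_pm {r s : ℕ} (hr : r.Prime) (hs : s.Prime) (hra : r ∣ ap q) (hsa : s ∣ am q) :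
    r ≠ s ∧ ¬ ∃ g : G, orderOf g = r * s := by
  have h5 := hG.four_le
  have key : r ∣ q ^ 3 - 1 ∧ ¬ s ∣ q ^ 3 - 1 := by
    refine ⟨hra.trans (ap_dvd_cube (by omega)), fun h => ?_⟩
    have h1 := Nat.dvd_gcd h (hsa.trans (am_dvd_cube (by omega)))
    rw [coprime_cube (by omega) (by omega)] at h1
    exact hs.one_lt.ne' (Nat.dvd_one.1 h1)
  refine ⟨?_, ?_⟩
  · rintro rfl
    exact key.2 key.1
  · rintro ⟨g, hg⟩
    have h1 := hG.ub_ap hr hra g (by rw [hg]; exact dvd_mul_right _ _)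
    rw [hg] at h1
    exact key.2 ((dvd_mul_left _ _).trans h1)

theorem X2.cube_odd : q ^ 3 % 2 = 0 ∧ 1 ≤ q ^ 3 := by
  have h5 := hG.four_le
  exact ⟨by rw [Nat.pow_mod, show q % 2 = 0 by omega], Nat.one_le_pow _ _ (by omega)⟩

theorem X2.no_two {r : ℕ} (hr : r.Prime) (hra : r ∣ ap q * am q) : 2 ≠ r ∧ ¬ ∃ g : G, orderOf g = 2 * r := by
  have h5 := hG.four_le
  have h3 := hG.cube_odd
  rcases hr.dvd_mul.1 hra with hra | hra
  · refine ⟨(ap_ne (by omega) hr hra).1.symm, ?_⟩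
    rintro ⟨g, hg⟩
    have h1 := hG.ub_ap hr hra g (by rw [hg]; exact dvd_mul_left _ _)
    rw [hg] at h1
    have h2 : 2 ∣ q ^ 3 - 1 := (dvd_mul_right 2 r).trans h1
    omega
  · refine ⟨(am_ne (by omega) hr hra).1.symm, ?_⟩
    rintro ⟨g, hg⟩
    have h1 := hG.ub_am hr hra g (by rw [hg]; exact dvd_mul_left _ _)
    rw [hg] at h1
    have h2 : 2 ∣ q ^ 3 + 1 := (dvd_mul_right 2 r).trans h1
    omega

theorem X2.no_four {r t : ℕ} (hr : r.Prime) (ht : t.Prime) (hra : r ∣ ap q * am q) (hta : t ∣ q ^ 2 + 1) :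
    r ≠ t ∧ ¬ ∃ g : G, orderOf g = r * t := by
  have h5 := hG.four_le
  have ht2 : t ≠ 2 := by
    rintro rfl
    have : q ^ 2 % 2 = 0 := by rw [Nat.pow_mod, show q % 2 = 0 by omega]
    omega
  refine ⟨?_, ?_⟩
  · rintro rfl
    rcases hr.dvd_mul.1 hra with h | h
    · exact ap_prime (by omega) hr h (hta.trans (sq_pm_dvd q).1)
    · exact am_prime (by omega) hr h (hta.trans (sq_pm_dvd q).1)
  · rintro ⟨g, hg⟩
    apply ht2
    rcases hr.dvd_mul.1 hra with h | h
    · have h1 := hG.ub_ap hr h g (by rw [hg]; exact dvd_mul_right _ _)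
      rw [hg] at h1
      exact sq_cube (by omega) ht hta (Or.inl ((dvd_mul_left _ _).trans h1))
    · have h1 := hG.ub_am hr h g (by rw [hg]; exact dvd_mul_right _ _)
      rw [hg] at h1
      exact sq_cube (by omega) ht hta (Or.inr ((dvd_mul_left _ _).trans h1))

/-- the cocliques `{c, r, s}`, `c = 2` or `c ∣ q² + 1` -/
theorem X2.coq {c r s : ℕ} (hc : c.Prime) (hc' : c = 2 ∨ c ∣ q ^ 2 + 1) (hr : r.Prime) (hs : s.Prime)
    (hra : r ∣ ap q) (hsa : s ∣ am q) :
    IsCoq G {c, r, s} ∧ ({c, r, s} : Finset ℕ).card = 3 := by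
  have h1 := hG.no_pm hr hs hra hsa
  have h2 : c ≠ r ∧ ¬ ∃ g : G, orderOf g = c * r := by
    rcases hc' with rfl | hc'
    · exact hG.no_two hr (hra.mul_right _)
    · have := hG.no_four hr hc (hra.mul_right _) hc'
      exact ⟨this.1.symm, by rw [mul_comm]; exact this.2⟩
  have h3 : c ≠ s ∧ ¬ ∃ g : G, orderOf g = c * s := by
    rcases hc' with rfl | hc'
    · exact hG.no_two hs (hsa.mul_left _)
    · have := hG.no_four hs hc (hsa.mul_left _) hc'
      exact ⟨this.1.symm, by rw [mul_comm]; exact this.2⟩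
  have h4 : c ∣ Nat.card G := by
    rcases hc' with rfl | hc'
    · exact dvd_card_of_order hG.d (by norm_num)
    · exact dvd_card_of_order hG.c hc'
  refine ⟨⟨?_, ?_, ?_⟩, ?_⟩
  · intro x hx
    simp only [Finset.mem_insert, Finset.mem_singleton] at hx
    rcases hx with rfl | rfl | rfl
    exacts [hc, hr, hs]
  · intro x hx
    simp only [Finset.mem_insert, Finset.mem_singleton] at hx
    rcases hx with rfl | rfl | rfl
    exacts [h4, hG.dvd_ap hra, hG.dvd_am hsa]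
  · intro x hx y hy hxy
    simp only [Finset.mem_insert, Finset.mem_singleton] at hx hy
    rcases hx with rfl | rfl | rfl <;> rcases hy with rfl | rfl | rfl
    · exact absurd rfl hxy
    · exact h2.2
    · exact h3.2
    · rw [mul_comm]; exact h2.2
    · exact absurd rfl hxy
    · exact h1.2
    · rw [mul_comm]; exact h3.2
    · rw [mul_comm]; exact h1.2
    · exact absurd rfl hxy
  · rw [Finset.card_insert_of_notMem (by simp [h2.1, h3.1]), Finset.card_insert_of_notMem (by simp [h1.1]),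
      Finset.card_singleton]

/-- existence of the reduction -/
theorem X2.exists_red [Finite G] :
    ∃ (K : Subgroup G) (_ : K.Normal) (S : Subgroup (G ⧸ K)) (_ : S.Normal), Red G K S := by
  have h5 := hG.four_le
  obtain ⟨r, hr, hra⟩ := exists_ap (q := q) (by omega)
  obtain ⟨s, hs, hsa⟩ := exists_am (q := q) (by omega)
  obtain ⟨h1, h2⟩ := hG.coq Nat.prime_two (Or.inl rfl) hr hs hra hsa
  exact Cfsg.Agent.H420.QR.exists_red h1 h2.ge
    ⟨s, hs, (am_ne (by omega) hs hsa).1, hG.dvd_am hsa, (hG.no_two hs (hsa.mul_left _)).2⟩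

/-- **The facts about `S`, `q = 2 ^ m`.** -/
theorem e2_of_red [Finite G] {K : Subgroup G} [K.Normal] {S : Subgroup (G ⧸ K)} [S.Normal] (h : Red G K S) :
    E2 q ↥S := by
  have h5 := hG.four_le
  have hcardG := card_eq_mul (K := K) (S := S)
  have hout := index_dvd_out S h.cent
  obtain ⟨r, hr, hra⟩ := exists_ap (q := q) (by omega)
  obtain ⟨s, hs, hsa⟩ := exists_am (q := q) (by omega)
  have key : ∀ c : ℕ, c.Prime → c ∣ Nat.card ↥K * S.index → (c = 2 ∨ c ∣ q ^ 2 + 1) →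
      ∀ x : ℕ, x.Prime → x ∣ ap q * am q → ¬ x ∣ Nat.card ↥K * S.index ∧ ¬ ∃ g : G, orderOf g = c * x := by
    intro c hc hcK hc' x hx hxa
    have hco : ∀ y z : ℕ, y.Prime → z.Prime → y ∣ ap q → z ∣ am q →
        IsCoq G {c, y, z} ∧ ({c, y, z} : Finset ℕ).card = 3 :=
      fun y z hy hz hya hza => hG.coq hc hc' hy hz hya hza
    rcases hx.dvd_mul.1 hxa with hxa | hxa
    · obtain ⟨h1, h2⟩ := hco x s hx hs hxa hsa
      have hne : c ≠ x := by
        rintro rfl
        simp only [Finset.mem_insert, Finset.mem_singleton, true_or, or_true, Finset.insert_eq_of_mem] at h2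
        have := Finset.card_le_two (a := c) (b := s)
        omega
      refine ⟨fun hd => hne ?_, h1.nadj c (by simp) x (by simp) hne⟩
      exact h.coc' _ h1 h2.ge c (by simp) x (by simp) hcK hd
    · obtain ⟨h1, h2⟩ := hco r x hr hx hra hxa
      have hne : c ≠ x := by
        rintro rfl
        rw [show ({c, r, c} : Finset ℕ) = {c, r} by ext y; simp; tauto] at h2
        have := Finset.card_le_two (a := c) (b := r)
        omega
      refine ⟨fun hd => hne ?_, h1.nadj c (by simp) x (by simp) hne⟩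
      exact h.coc' _ h1 h2.ge c (by simp) x (by simp) hcK hd
  have hord' : (∀ x : ℕ, x.Prime → x ∣ ap q * am q → ¬ x ∣ Nat.card ↥K * S.index) →
      (∃ x : ↥S, orderOf x = ap q) ∧ (∃ x : ↥S, orderOf x = am q) := by
    intro hk
    refine ⟨order_of_coprime ?_ ?_, order_of_coprime ?_ ?_⟩
    · exact order_of_dvd hG.a (ap_dvd_cube (q := q) (by omega))
    · apply Nat.coprime_of_dvd
      intro x hx h1 h2
      exact (hk x hx (h1.mul_right _)) h2
    · exact order_of_dvd hG.b (am_dvd_cube (q := q) (by omega))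
    · apply Nat.coprime_of_dvd
      intro x hx h1 h2
      exact (hk x hx (h1.mul_left _)) h2
  have hord : ∀ c : ℕ, c.Prime → c ∣ Nat.card ↥K * S.index → (c = 2 ∨ c ∣ q ^ 2 + 1) →
      (∃ x : ↥S, orderOf x = ap q) ∧ (∃ x : ↥S, orderOf x = am q) := by
    intro c hc hcK hc'
    exact hord' fun x hx hxa => (key c hc hcK hc' x hx hxa).1
  have hno' : ∀ c : ℕ, c.Prime → c ∣ Nat.card ↥K →
      (∀ x : ℕ, x.Prime → x ∣ ap q * am q → ¬ x ∣ Nat.card ↥K ∧ ¬ ∃ g : G, orderOf g = c * x) → NoFrob c q ↥S := by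
    intro c hc hcK hk
    exact noFrob_of h.solv h.simple (by omega) hc hcK hk
  have hno : ∀ c : ℕ, c.Prime → c ∣ Nat.card ↥K → (c = 2 ∨ c ∣ q ^ 2 + 1) → NoFrob c q ↥S := by
    intro c hc hcK hc'
    refine hno' c hc hcK fun x hx hxa => ?_
    have h1 := key c hc (hcK.mul_right _) hc' x hx hxa
    exact ⟨fun h2 => h1.1 (h2.mul_right _), h1.2⟩
  have hdvd : ∀ c : ℕ, c.Prime → c ∣ Nat.card G → ¬ c ∣ Nat.card ↥S → c ∣ Nat.card ↥K * S.index := by
    intro c hc h1 h2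
    rw [hcardG] at h1
    exact (hc.dvd_mul.1 h1).resolve_left h2
  have h8 : ¬ 2 ∣ Nat.card ↥K * S.index → ∃ x : ↥S, orderOf x = 8 := by
    intro h1
    refine order_of_coprime hG.d ?_
    have h2 := (Nat.Prime.coprime_iff_not_dvd (by norm_num : Nat.Prime 2)).2 h1
    exact Nat.Coprime.pow_left 3 h2
  refine ⟨hG.pow, ?_, ?_, ?_, ?_, ?_, ?_, ?_⟩
  · intro x
    obtain ⟨g, hg⟩ := order_lift (K := K) (S := S) x
    rcases hG.ub g with h1 | h1 | h1 | h1 | h1 | h1 | h1 | h1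
    · exact Or.inl (hg.trans h1)
    · exact Or.inr (Or.inl (hg.trans h1))
    · exact Or.inr (Or.inr (Or.inl (hg.trans h1)))
    · exact Or.inr (Or.inr (Or.inr (Or.inl (hg.trans h1))))
    · exact Or.inr (Or.inr (Or.inr (Or.inr (Or.inl (hg.trans h1)))))
    · exact Or.inr (Or.inr (Or.inr (Or.inr (Or.inr (Or.inl (hg.trans h1))))))
    · exact Or.inr (Or.inr (Or.inr (Or.inr (Or.inr (Or.inr (Or.inl (hg.trans h1)))))))
    · exact Or.inr (Or.inr (Or.inr (Or.inr (Or.inr (Or.inr (Or.inr (hg.trans h1)))))))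
  · rcases h.two with h1 | h1
    · exact Or.inl h1
    · right
      have hk : ∀ x : ℕ, x.Prime → x ∣ ap q * am q → ¬ x ∣ Nat.card ↥K ∧ ¬ x ∣ S.index := by
        intro x hx hxa
        have hxG : x ∣ Nat.card G := by
          rcases hx.dvd_mul.1 hxa with h2 | h2
          · exact hG.dvd_ap h2
          · exact hG.dvd_am h2
        exact (h1 x hx (hG.no_two hx hxa).1.symm hxG (hG.no_two hx hxa).2).2
      obtain ⟨h2, h3⟩ := hord' fun x hx hxa h4 => by
        rcases hx.dvd_mul.1 h4 with h6 | h6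
        · exact (hk x hx hxa).1 h6
        · exact (hk x hx hxa).2 h6
      refine ⟨h2, h3, ?_⟩
      by_cases h4 : 2 ∣ Nat.card ↥K * S.index
      · rcases Nat.prime_two.dvd_mul.1 h4 with h6 | h6
        · exact Or.inl (hno' 2 Nat.prime_two h6 fun x hx hxa => ⟨(hk x hx hxa).1, (hG.no_two hx hxa).2⟩)
        · exact Or.inr (Or.inl (h6.trans hout))
      · exact Or.inr (Or.inr (h8 h4))
  · by_cases h1 : 2 ∣ Nat.card ↥K * S.index
    · exact Or.inl (hord 2 Nat.prime_two h1 (Or.inl rfl))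
    · exact Or.inr (h8 h1)
  · intro x y hx hy hxa hya
    obtain ⟨h1, h2⟩ := hG.coq Nat.prime_two (Or.inl rfl) hx hy hxa hya
    by_contra hcon
    push Not at hcon
    have := h.coc h1 h2.ge (r := x) (s := y) (by simp) (by simp) hcon.1 hcon.2
    exact (hG.no_pm hx hy hxa hya).1 this
  · intro x y hx hy hxa hya
    obtain ⟨h1, h2⟩ := hG.coq hy (Or.inr hya) hx hs hxa hsa
    by_contra hcon
    push Not at hcon
    have := h.coc h1 h2.ge (r := x) (s := y) (by simp) (by simp) hcon.1 hcon.2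
    exact (hG.no_four hx hy (hxa.mul_right _) hya).1 this
  · intro x y hx hy hxa hya
    obtain ⟨h1, h2⟩ := hG.coq hy (Or.inr hya) hr hx hra hxa
    by_contra hcon
    push Not at hcon
    have := h.coc h1 h2.ge (r := x) (s := y) (by simp) (by simp) hcon.1 hcon.2
    exact (hG.no_four hx hy (hxa.mul_left _) hya).1 this
  · intro t ht hta htS htO
    have h1 := hdvd t ht (dvd_card_of_order hG.c hta) htS
    have h2 : t ∣ Nat.card ↥K := (ht.dvd_mul.1 h1).resolve_right fun h3 => htO (h3.trans hout)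
    obtain ⟨h3, h4⟩ := hord t ht h1 (Or.inr hta)
    exact ⟨h3, h4, hno t ht h2 (Or.inr hta)⟩

end two

end Cfsg.Agent.H376.Six
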