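import Cfsg.Agent.H390.B6.FromRed
import Cfsg.Agent.H390.B6.Congr
import Cfsg.Agent.H390.B6.OddTwo
import Cfsg.Agent.H772.Six.PslTwo
import Cfsg.Agent.S3534
import Cfsg.Agent.S3535
import Cfsg.Agent.S3671

/-!
# The simple section (helper390, block 6)

* `lie_of_par` : a named group with parameter divisible by `p` is of Lie type in characteristic `p`;
* `sporadic_of_named` : the sporadic names;
* `Rows5`, `Rows2` : the elimination rows;
* `sect_five`, `sect_two` : the simple section `S`.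
-/

set_option autoImplicit false
set_option linter.unusedSectionVars false
set_option linter.unusedVariables false

namespace Cfsg.Agent.H376.Six

open Subgroup Cfsg Cfsg.Agent.H420.QR Cfsg.Agent.OrdDiv Cfsg.Agent.H436

universe u v w

/-- the field parameter of a name (`1` : not a group of Lie type) -/
def par : Grp → ℕ
  | .psl _ q => q
  | .psp _ q => q
  | .psu _ q => q
  | .oodd _ q => q
  | .oplus _ q => q
  | .ominus _ q => q
  | .g2 q => q
  | .f4 q => q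
  | .e6 q => q
  | .e7 q => q
  | .e8 q => q
  | .te6 q => q
  | .td4 q => q
  | .sz q => q
  | .ree q => q
  | .tf4 q => q
  | _ => 1

theorem charP_of_dvd_card {F : Type*} [Field F] [Fintype F] {p : ℕ} (hp : p.Prime) (h : p ∣ Fintype.card F) :
    CharP F p := by
  obtain ⟨r, hr⟩ := CharP.exists F
  have hrp : r.Prime := CharP.char_is_prime F r
  obtain ⟨n, -, hn⟩ := FiniteField.card F r
  rw [hn] at h
  have := (Nat.prime_dvd_prime_iff_eq hp hrp).1 (hp.dvd_of_dvd_pow h)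
  rw [this]
  exact hr

/-- **A named group with parameter divisible by `p` is of Lie type in characteristic `p`.** -/
theorem lie_of_par {p : ℕ} (hp : p.Prime) {g : Grp} {S : Type u} [Group S] (h : IsNamed g S) (hd : p ∣ par g) :
    IsLieTypeChar p S := by
  have hno : ¬ p ∣ 1 := fun h1 => hp.one_lt.ne' (Nat.dvd_one.1 h1)
  have hc := h.cond
  have hr := h.real
  unfold IsLieTypeChar
  cases g with
  | psl n q =>
    obtain ⟨F, i1, i2, hF, e⟩ := hr
    have := charP_of_dvd_card hp (show p ∣ Fintype.card F by rw [hF]; exact hd)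
    exact Or.inl ⟨F, i1, i2, this, n, hc.1, fun h1 => by rw [hF]; exact hc.2.1 h1, e⟩
  | psp n q =>
    obtain ⟨F, i1, i2, hF, e⟩ := hr
    have := charP_of_dvd_card hp (show p ∣ Fintype.card F by rw [hF]; exact hd)
    exact Or.inr (Or.inl ⟨F, i1, i2, this, n, hc.1, fun h1 => by rw [hF]; exact hc.2.1 h1, e⟩)
  | psu n q =>
    obtain ⟨F, i1, i2, hF, e⟩ := hr
    have := charP_of_dvd_card hp (show p ∣ Fintype.card F by rw [hF]; exact dvd_pow hd (by norm_num))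
    exact Or.inr (Or.inr (Or.inl ⟨F, i1, i2, this, n, q, hF, hc.1, hc.2.1, e⟩))
  | oodd n q =>
    obtain ⟨F, i1, i2, hF, e⟩ := hr
    have := charP_of_dvd_card hp (show p ∣ Fintype.card F by rw [hF]; exact hd)
    exact Or.inr (Or.inr (Or.inr (Or.inl ⟨F, i1, i2, this, n, hc.1, by rw [hF]; exact hc.2.1, e⟩)))
  | oplus n q =>
    obtain ⟨F, i1, i2, hF, e⟩ := hr
    have := charP_of_dvd_card hp (show p ∣ Fintype.card F by rw [hF]; exact hd)
    exact Or.inr (Or.inr (Or.inr (Or.inr (Or.inl ⟨F, i1, i2, this, n, hc.1, e⟩))))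
  | ominus n q =>
    obtain ⟨F, i1, i2, a, b, hF, hab, e⟩ := hr
    have := charP_of_dvd_card hp (show p ∣ Fintype.card F by rw [hF]; exact hd)
    exact Or.inr (Or.inr (Or.inr (Or.inr (Or.inr (Or.inl ⟨F, i1, i2, this, n, a, b, hc.1, hab, e⟩)))))
  | g2 q =>
    obtain ⟨F, i1, i2, hF, e⟩ := hr
    have := charP_of_dvd_card hp (show p ∣ Fintype.card F by rw [hF]; exact hd)
    exact Or.inr (Or.inr (Or.inr (Or.inr (Or.inr (Or.inr (Or.inl
      ⟨F, i1, i2, this, Or.inl ⟨by rw [hF]; exact hc.1, e⟩⟩))))))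
  | f4 q =>
    obtain ⟨F, i1, i2, hF, e⟩ := hr
    have := charP_of_dvd_card hp (show p ∣ Fintype.card F by rw [hF]; exact hd)
    exact Or.inr (Or.inr (Or.inr (Or.inr (Or.inr (Or.inr (Or.inl ⟨F, i1, i2, this, Or.inr (Or.inl e)⟩))))))
  | e6 q =>
    obtain ⟨F, i1, i2, hF, e⟩ := hr
    have := charP_of_dvd_card hp (show p ∣ Fintype.card F by rw [hF]; exact hd)
    exact Or.inr (Or.inr (Or.inr (Or.inr (Or.inr (Or.inr (Or.inl ⟨F, i1, i2, this, Or.inr (Or.inr (Or.inl e))⟩))))))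
  | e7 q =>
    obtain ⟨F, i1, i2, hF, e⟩ := hr
    have := charP_of_dvd_card hp (show p ∣ Fintype.card F by rw [hF]; exact hd)
    exact Or.inr (Or.inr (Or.inr (Or.inr (Or.inr (Or.inr (Or.inl
      ⟨F, i1, i2, this, Or.inr (Or.inr (Or.inr (Or.inl e)))⟩))))))
  | e8 q =>
    obtain ⟨F, i1, i2, hF, e⟩ := hr
    have := charP_of_dvd_card hp (show p ∣ Fintype.card F by rw [hF]; exact hd)
    exact Or.inr (Or.inr (Or.inr (Or.inr (Or.inr (Or.inr (Or.inl
      ⟨F, i1, i2, this, Or.inr (Or.inr (Or.inr (Or.inr e)))⟩))))))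
  | te6 q =>
    obtain ⟨F, i1, i2, hF, e⟩ := hr
    have := charP_of_dvd_card hp (show p ∣ Fintype.card F by rw [hF]; exact dvd_pow hd (by norm_num))
    exact Or.inr (Or.inr (Or.inr (Or.inr (Or.inr (Or.inr (Or.inr (Or.inl
      ⟨F, i1, i2, this, q, hc, Or.inl ⟨hF, e⟩⟩)))))))
  | td4 q =>
    obtain ⟨F, i1, i2, hF, e⟩ := hr
    have := charP_of_dvd_card hp (show p ∣ Fintype.card F by rw [hF]; exact dvd_pow hd (by norm_num))
    exact Or.inr (Or.inr (Or.inr (Or.inr (Or.inr (Or.inr (Or.inr (Or.inl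
      ⟨F, i1, i2, this, q, hc, Or.inr ⟨hF, e⟩⟩)))))))
  | sz q =>
    obtain ⟨F, i1, i2, m, hm, hF, hq, e⟩ := hr
    have hd' : p ∣ 2 ^ (2 * m + 1) := by rw [← hq]; exact hd
    have h2 := (Nat.prime_dvd_prime_iff_eq hp Nat.prime_two).1 (hp.dvd_of_dvd_pow hd')
    exact Or.inr (Or.inr (Or.inr (Or.inr (Or.inr (Or.inr (Or.inr (Or.inr (Or.inl
      ⟨h2, F, i1, i2, m, hm, hF.trans hq, e⟩))))))))
  | tf4 q =>
    obtain ⟨F, i1, i2, m, hm, hF, hq, e⟩ := hr
    have hd' : p ∣ 2 ^ (2 * m + 1) := by rw [← hq]; exact hd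
    have h2 := (Nat.prime_dvd_prime_iff_eq hp Nat.prime_two).1 (hp.dvd_of_dvd_pow hd')
    exact Or.inr (Or.inr (Or.inr (Or.inr (Or.inr (Or.inr (Or.inr (Or.inr (Or.inr (Or.inl
      ⟨h2, F, i1, i2, m, hm, hF.trans hq, e⟩)))))))))
  | ree q =>
    obtain ⟨F, i1, i2, m, hm, hF, hq, e⟩ := hr
    have hd' : p ∣ 3 ^ (2 * m + 1) := by rw [← hq]; exact hd
    have h2 := (Nat.prime_dvd_prime_iff_eq hp Nat.prime_three).1 (hp.dvd_of_dvd_pow hd')
    exact Or.inr (Or.inr (Or.inr (Or.inr (Or.inr (Or.inr (Or.inr (Or.inr (Or.inr (Or.inr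
      ⟨h2, F, i1, i2, m, hm, hF.trans hq, e⟩)))))))))
  | _ => exact absurd hd hno

/-- the sporadic names -/
theorem sporadic_of_named {g : Grp} {S : Type u} [Group S] (hs : IsSimpleGroup S) (h : IsNamed g S)
    (hg : g ∈ [Grp.m11, .m12, .m22, .m23, .m24, .j1, .j2, .j3, .j4, .co1, .co2, .co3, .mcl, .hs, .suz, .he, .ru, .on,
      .ly, .fi22, .fi23, .fi24, .hn, .th, .b, .m]) : IsSporadic S := by
  have ho := h.ord
  unfold IsSporadic
  simp only [List.mem_cons, List.not_mem_nil, or_false] at hg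
  rcases hg with rfl | rfl | rfl | rfl | rfl | rfl | rfl | rfl | rfl | rfl | rfl | rfl | rfl | rfl | rfl | rfl | rfl |
    rfl | rfl | rfl | rfl | rfl | rfl | rfl | rfl | rfl
  · have h1 : IsM11 S := ⟨hs, ho⟩
    tauto
  · have h1 : IsM12 S := ⟨hs, ho⟩
    tauto
  · have h1 : IsM22 S := ⟨hs, ho⟩
    tauto
  · have h1 : IsM23 S := ⟨hs, ho⟩
    tauto
  · have h1 : IsM24 S := ⟨hs, ho⟩
    tauto
  · have h1 : IsJ1 S := ⟨hs, ho⟩
    tauto
  · have h1 : IsJ2 S := ⟨hs, ho⟩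
    tauto
  · have h1 : IsJ3 S := ⟨hs, ho⟩
    tauto
  · have h1 : IsJ4 S := ⟨hs, ho⟩
    tauto
  · have h1 : IsCo1 S := ⟨hs, ho⟩
    tauto
  · have h1 : IsCo2 S := ⟨hs, ho⟩
    tauto
  · have h1 : IsCo3 S := ⟨hs, ho⟩
    tauto
  · have h1 : IsMcL S := ⟨hs, ho⟩
    tauto
  · have h1 : IsHS S := ⟨hs, ho⟩
    tauto
  · have h1 : IsSuz S := ⟨hs, ho⟩
    tauto
  · have h1 : IsHe S := ⟨hs, ho⟩
    tauto
  · have h1 : IsRu S := ⟨hs, ho⟩
    tauto
  · have h1 : IsON S := ⟨hs, ho⟩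
    tauto
  · have h1 : IsLy S := ⟨hs, ho⟩
    tauto
  · have h1 : IsFi22 S := ⟨hs, ho⟩
    tauto
  · have h1 : IsFi23 S := ⟨hs, ho⟩
    tauto
  · have h1 : IsFi24' S := ⟨hs, ho⟩
    tauto
  · have h1 : IsHN S := ⟨hs, ho⟩
    tauto
  · have h1 : IsTh S := ⟨hs, ho⟩
    tauto
  · have h1 : IsB S := ⟨hs, ho⟩
    tauto
  · have h1 : IsM S := ⟨hs, ho⟩
    tauto

/-- the hypothesis on `L` -/
def LHyp (F : Type v) [Field F] [Fintype F] (L : Type w) [Group L] : Prop :=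
  Nonempty (L ≃* PSp 3 F) ∨ (Odd (Fintype.card F) ∧ Nonempty (L ≃* POmega F (quadFormOdd 3 F))) ∨
    Nonempty (L ≃* POmega F (quadFormPlus 4 F))

/-- a model of a finite field in `Type` -/
theorem exists_type_field (F : Type v) [Field F] [Fintype F] :
    ∃ (F' : Type) (_ : Field F') (_ : Fintype F'), Fintype.card F' = Fintype.card F ∧ Nonempty (F ≃+* F') := by
  obtain ⟨r, hr⟩ := CharP.exists F
  have hrp : r.Prime := CharP.char_is_prime F r
  have := Fact.mk hrp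
  obtain ⟨n, -, hn⟩ := FiniteField.card F r
  have h1 : Nat.card (GaloisField r n) = r ^ (n : ℕ) := GaloisField.card r n n.2.ne'
  have hft : Finite (GaloisField r n) := Nat.finite_of_card_ne_zero (by
    rw [h1]; exact pow_ne_zero _ hrp.ne_zero)
  let i := Fintype.ofFinite (GaloisField r n)
  have h2 : Fintype.card F = Fintype.card (GaloisField r n) := by
    rw [hn, ← Nat.card_eq_fintype_card, h1]
  exact ⟨GaloisField r n, inferInstance, i, h2.symm, ⟨FiniteField.ringEquivOfCardEq h2⟩⟩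

/-- the hypothesis of S3534, S3535 -/
theorem LHyp.families {F : Type v} [Field F] [Fintype F] {L : Type w} [Group L] [Finite L] (h : LHyp F L)
    {r : ℕ} (hr : r.Prime) (hr7 : 7 ≤ r) (hrL : r ∣ Nat.card L) :
    (Cfsg.IsPSp L ∧ ∀ (F : Type) [Field F] [Fintype F], Fintype.card F = 3 → ¬ Nonempty (L ≃* Cfsg.PSp 2 F)) ∨
      Cfsg.IsPOmegaOdd L ∨ Cfsg.IsPOmegaPlus L ∨ Cfsg.IsPOmegaMinus L := by
  obtain ⟨F', i1, i2, hF', ⟨σ⟩⟩ := exists_type_field F
  rcases h with ⟨⟨e⟩⟩ | ⟨ho, ⟨e⟩⟩ | ⟨⟨e⟩⟩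
  · left
    refine ⟨⟨F', i1, i2, 3, by norm_num, by norm_num,
      ⟨e.trans (Cfsg.Agent.LieClassical.FieldTransfer.pspCongr 3 σ)⟩⟩, ?_⟩
    rintro E _ _ hE ⟨e'⟩
    have h1 := psp_eq (F := E) (m := 2) le_rfl
    rw [hE, ← Nat.card_congr e'.toEquiv] at h1
    have h2 : 2 * Nat.card L = 51840 := h1
    have h3 : Nat.card L = 25920 := by omega
    rw [h3] at hrL
    have h4 : r ∣ 2 ^ 6 * (3 ^ 4 * 5) := hrL
    rcases hr.dvd_mul.1 h4 with h5 | h5
    · have := Nat.le_of_dvd (by norm_num) (hr.dvd_of_dvd_pow h5)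
      omega
    · rcases hr.dvd_mul.1 h5 with h6 | h6
      · have := Nat.le_of_dvd (by norm_num) (hr.dvd_of_dvd_pow h6)
        omega
      · have := Nat.le_of_dvd (by norm_num) h6
        omega
  · obtain ⟨e'⟩ := Cfsg.Agent.UGT.U2.Rec.Congr.nonempty_POmegaOdd σ 3
    exact Or.inr (Or.inl ⟨F', i1, i2, 3, le_rfl, by rw [hF']; exact ho, ⟨e.trans e'⟩⟩)
  · obtain ⟨e'⟩ := Cfsg.Agent.UGT.U2.Rec.Congr.nonempty_POmega σ (Cfsg.Agent.H902.Iso.plus_map σ 4)
    exact Or.inr (Or.inr (Or.inl ⟨F', i1, i2, 4, le_rfl, ⟨e.trans e'⟩⟩))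

/-- the elimination rows, `q = 5 ^ m` -/
structure Rows5 : Prop where
  psl_two : ∀ {q : ℕ} {F : Type} [Field F] [Fintype F], ¬ 5 ∣ Fintype.card F → 4 ≤ Fintype.card F →
    E5 q (Matrix.ProjectiveSpecialLinearGroup (Fin 2) F) → False
  psl_three : ∀ {q : ℕ} {F : Type} [Field F] [Fintype F], ¬ 5 ∣ Fintype.card F →
    E5 q (Matrix.ProjectiveSpecialLinearGroup (Fin 3) F) → False
  psl : ∀ {q n : ℕ} {F : Type} [Field F] [Fintype F], ¬ 5 ∣ Fintype.card F → 4 ≤ n →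
    E5 q (Matrix.ProjectiveSpecialLinearGroup (Fin n) F) → False
  psp_two : ∀ {q : ℕ} {F : Type} [Field F] [Fintype F], ¬ 5 ∣ Fintype.card F → 3 ≤ Fintype.card F →
    E5 q (PSp 2 F) → False
  psp : ∀ {q n : ℕ} {F : Type} [Field F] [Fintype F], ¬ 5 ∣ Fintype.card F → 3 ≤ n → E5 q (PSp n F) → False
  psu_three : ∀ {q w : ℕ} {F : Type} [Field F] [Fintype F], Fintype.card F = w ^ 2 → ¬ 5 ∣ w → 3 ≤ w →
    E5 q (PSU 3 F w) → False
  psu : ∀ {q w n : ℕ} {F : Type} [Field F] [Fintype F], Fintype.card F = w ^ 2 → ¬ 5 ∣ w → 4 ≤ n →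
    E5 q (PSU n F w) → False
  oodd : ∀ {q n : ℕ} {F : Type} [Field F] [Fintype F], ¬ 5 ∣ Fintype.card F → Odd (Fintype.card F) → 3 ≤ n →
    E5 q (POmega F (quadFormOdd n F)) → False
  oplus : ∀ {q n : ℕ} {F : Type} [Field F] [Fintype F], ¬ 5 ∣ Fintype.card F → 4 ≤ n →
    E5 q (POmega F (quadFormPlus n F)) → False
  ominus : ∀ {q n : ℕ} {F : Type} [Field F] [Fintype F], ¬ 5 ∣ Fintype.card F → 4 ≤ n → ∀ {a b : F},
    (∀ z₁ z₂ : F, z₁ ^ 2 + a * z₁ * z₂ + b * z₂ ^ 2 = 0 → z₁ = 0 ∧ z₂ = 0) →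
    E5 q (POmega F (quadFormMinus (n - 1) F a b)) → False
  g2 : ∀ {q : ℕ} {F : Type} [Field F] [Fintype F], ¬ 5 ∣ Fintype.card F → 3 ≤ Fintype.card F →
    E5 q ↥(Cfsg.Lie.chevG2.group F) → False
  f4 : ∀ {q : ℕ} {F : Type} [Field F] [Fintype F], ¬ 5 ∣ Fintype.card F → E5 q ↥(Cfsg.Lie.chevF4.group F) → False
  e6 : ∀ {q : ℕ} {F : Type} [Field F] [Fintype F], ¬ 5 ∣ Fintype.card F → E5 q ↥(Cfsg.Lie.chevE6.group F) → False
  e7 : ∀ {q : ℕ} {F : Type} [Field F] [Fintype F], ¬ 5 ∣ Fintype.card F → E5 q ↥(Cfsg.Lie.chevE7.group F) → False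
  e8 : ∀ {q : ℕ} {F : Type} [Field F] [Fintype F], ¬ 5 ∣ Fintype.card F → E5 q ↥(Cfsg.Lie.chevE8.group F) → False
  te6 : ∀ {q w : ℕ} {S : Type u} [Group S], IsNamed (.te6 w) S → ¬ 5 ∣ w → E5 q S → False
  td4 : ∀ {q w : ℕ} {S : Type u} [Group S], IsNamed (.td4 w) S → ¬ 5 ∣ w → E5 q S → False
  tf4 : ∀ {q w : ℕ} {S : Type u} [Group S], IsNamed (.tf4 w) S → E5 q S → False
  sz : ∀ {q w : ℕ} {S : Type u} [Group S], IsNamed (.sz w) S → E5 q S → False
  ree : ∀ {q w : ℕ} {S : Type u} [Group S], IsNamed (.ree w) S → E5 q S → False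

/-- the elimination rows, `q = 2 ^ m` -/
structure Rows2 : Prop where
  psl_two : ∀ {q : ℕ} {F : Type} [Field F] [Fintype F], Odd (Fintype.card F) → 4 ≤ Fintype.card F →
    E2 q (Matrix.ProjectiveSpecialLinearGroup (Fin 2) F) → q = 4 ∧ Fintype.card F = 13
  psl_three : ∀ {q : ℕ} {F : Type} [Field F] [Fintype F], Odd (Fintype.card F) →
    E2 q (Matrix.ProjectiveSpecialLinearGroup (Fin 3) F) → False
  psl : ∀ {q n : ℕ} {F : Type} [Field F] [Fintype F], Odd (Fintype.card F) → 4 ≤ n →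
    E2 q (Matrix.ProjectiveSpecialLinearGroup (Fin n) F) → False
  psp_two : ∀ {q : ℕ} {F : Type} [Field F] [Fintype F], Odd (Fintype.card F) → 3 ≤ Fintype.card F →
    E2 q (PSp 2 F) → False
  psp : ∀ {q n : ℕ} {F : Type} [Field F] [Fintype F], Odd (Fintype.card F) → 3 ≤ n → E2 q (PSp n F) → False
  psu_three : ∀ {q w : ℕ} {F : Type} [Field F] [Fintype F], Fintype.card F = w ^ 2 → Odd w → 3 ≤ w →
    E2 q (PSU 3 F w) → False
  psu : ∀ {q w n : ℕ} {F : Type} [Field F] [Fintype F], Fintype.card F = w ^ 2 → Odd w → 4 ≤ n →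
    E2 q (PSU n F w) → False
  oodd : ∀ {q n : ℕ} {F : Type} [Field F] [Fintype F], Odd (Fintype.card F) → 3 ≤ n →
    E2 q (POmega F (quadFormOdd n F)) → False
  oplus : ∀ {q n : ℕ} {F : Type} [Field F] [Fintype F], Odd (Fintype.card F) → 4 ≤ n →
    E2 q (POmega F (quadFormPlus n F)) → False
  ominus : ∀ {q n : ℕ} {F : Type} [Field F] [Fintype F], Odd (Fintype.card F) → 4 ≤ n → ∀ {a b : F},
    (∀ z₁ z₂ : F, z₁ ^ 2 + a * z₁ * z₂ + b * z₂ ^ 2 = 0 → z₁ = 0 ∧ z₂ = 0) →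
    E2 q (POmega F (quadFormMinus (n - 1) F a b)) → False
  g2 : ∀ {q : ℕ} {F : Type} [Field F] [Fintype F], Odd (Fintype.card F) →
    E2 q ↥(Cfsg.Lie.chevG2.group F) → q = 4 ∧ Fintype.card F = 3
  f4 : ∀ {q : ℕ} {F : Type} [Field F] [Fintype F], Odd (Fintype.card F) → E2 q ↥(Cfsg.Lie.chevF4.group F) → False
  e6 : ∀ {q : ℕ} {F : Type} [Field F] [Fintype F], Odd (Fintype.card F) → E2 q ↥(Cfsg.Lie.chevE6.group F) → False
  e7 : ∀ {q : ℕ} {F : Type} [Field F] [Fintype F], Odd (Fintype.card F) → E2 q ↥(Cfsg.Lie.chevE7.group F) → False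
  e8 : ∀ {q : ℕ} {F : Type} [Field F] [Fintype F], Odd (Fintype.card F) → E2 q ↥(Cfsg.Lie.chevE8.group F) → False
  te6 : ∀ {q w : ℕ} {S : Type u} [Group S], IsNamed (.te6 w) S → Odd w → E2 q S → False
  td4 : ∀ {q w : ℕ} {S : Type u} [Group S], IsNamed (.td4 w) S → Odd w → E2 q S → False
  ree : ∀ {q w : ℕ} {S : Type u} [Group S], IsNamed (.ree w) S → E2 q S → False

/-- a composition factor of `G` isomorphic to `S` -/
theorem exists_factor {G : Type u} [Group G] [Finite G] {K : Subgroup G} [K.Normal] {S : Subgroup (G ⧸ K)}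
    [S.Normal] (R : Red G K S) :
    ∃ (H : Subgroup G) (_ : H.Normal) (N : Subgroup ↥H) (_ : N.Normal), Nonempty (↥H ⧸ N ≃* ↥S) := by
  obtain ⟨K', H, hK', hH, h1, h2, h3, h4⟩ := R.quasi (L := ↥S) ⟨MulEquiv.refl _⟩
  exact ⟨H, hH, K'.subgroupOf H, inferInstance, h4⟩

/-- **The simple section, `q = 5 ^ m`.** -/
theorem sect_five (rows : Rows5.{u}) {F : Type v} [Field F] [Fintype F] [CharP F 5] {L : Type w} [Group L] [Finite L]
    (hL : LHyp F L) {G : Type u} [Group G] [Finite G]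
    (h : Set.range (orderOf : G → ℕ) = Set.range (orderOf : L → ℕ)) (hX : X5 (Fintype.card F) G)
    {K : Subgroup G} [K.Normal] {S : Subgroup (G ⧸ K)} [S.Normal] (R : Red G K S) :
    Nonempty (↥S ≃* POmega F (quadFormOdd 3 F)) ∨ Nonempty (↥S ≃* PSp 3 F) ∨
      Nonempty (↥S ≃* POmega F (quadFormPlus 4 F)) ∨ Nonempty (↥S ≃* ↥(Cfsg.Lie.chevG2.group F)) := by
  have hq5 := hX.five_le
  have hE := e5_of_red hX R
  obtain ⟨H, hH, N, hN, ⟨t⟩⟩ := exists_factor R
  have hS := R.simple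
  have hT : IsSimpleGroup (↥H ⧸ N) := t.isSimpleGroup
  have hna : ¬ IsMulCommutative (↥H ⧸ N) := fun hc => R.nonab ⟨⟨fun x y => by
    obtain ⟨x, rfl⟩ := t.surjective x
    obtain ⟨y, rfl⟩ := t.surjective y
    rw [← map_mul, ← map_mul, hc.1.1]⟩⟩
  have hET : E5 (Fintype.card F) (↥H ⧸ N) := hE.congr t.symm
  have hsub : H.IsSubnormal := Subgroup.Normal.isSubnormal hH
  -- the prime for S3534
  obtain ⟨r, hr, hra⟩ := exists_ap (q := Fintype.card F) (by omega)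
  have hr7 : 7 ≤ r := by
    have h3 := three_dvd_sub_one (q := Fintype.card F) (by omega) hr (hra.mul_right _)
    have h2 := (ap_ne (by omega) hr hra).1
    have h6 := hr.two_le
    by_contra hcon
    have h8 : r = 4 := by omega
    rw [h8] at hr
    revert hr
    norm_num
  have hrL : r ∣ Nat.card L := by
    obtain ⟨y, hy⟩ := exists_of_range h.symm (order_of_dvd hX.a (hra.trans (ap_dvd_half (by omega) (by omega))))
    rw [← hy]
    exact orderOf_dvd_natCard y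
  have hfam := hL.families hr hr7 hrL
  have hspor := Cfsg.Agent.S3535.result hfam h H hsub N hT hna
  have halt := Cfsg.Agent.S3534.result hfam h H hsub N hT hna
  obtain ⟨g, hg⟩ := H436.name hna
  by_cases h5 : 5 ∣ par g
  · have hlie := lie_of_par (by norm_num) hg h5
    have : Fact (Nat.Prime 5) := ⟨by norm_num⟩
    rcases Cfsg.Agent.S3671.result 5 hL h H hsub N hT hna hlie with ⟨E, i1, i2, hE3, ⟨e⟩⟩ | ⟨⟨e⟩⟩ | ⟨⟨e⟩⟩ | ⟨⟨e⟩⟩ | ⟨⟨e⟩⟩
    · exact (Cfsg.Agent.H772.Six.not_psl_five hE3 (hET.congr e)).elim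
    · exact Or.inl ⟨t.symm.trans e⟩
    · exact Or.inr (Or.inl ⟨t.symm.trans e⟩)
    · exact Or.inr (Or.inr (Or.inl ⟨t.symm.trans e⟩))
    · exact Or.inr (Or.inr (Or.inr ⟨t.symm.trans e⟩))
  · exfalso
    have hc := hg.cond
    have hre := hg.real
    cases g with
    | alt n => exact halt n hre
    | psl n w =>
      obtain ⟨E, i1, i2, hF, ⟨e⟩⟩ := hre
      have hEe := hET.congr e
      have h5' : ¬ 5 ∣ Fintype.card E := by rw [hF]; exact h5
      obtain ⟨hn2, hn24, -⟩ := hc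
      rcases Nat.lt_or_ge n 4 with h4 | h4
      · have : n = 2 ∨ n = 3 := by omega
        rcases this with rfl | rfl
        · exact rows.psl_two h5' (by rw [hF]; exact hn24 rfl) hEe
        · exact rows.psl_three h5' hEe
      · exact rows.psl h5' h4 hEe
    | psp n w =>
      obtain ⟨E, i1, i2, hF, ⟨e⟩⟩ := hre
      have hEe := hET.congr e
      have h5' : ¬ 5 ∣ Fintype.card E := by rw [hF]; exact h5
      obtain ⟨hn2, hn24, -⟩ := hc
      rcases Nat.lt_or_ge n 3 with h4 | h4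
      · obtain rfl : n = 2 := by omega
        exact rows.psp_two h5' (by rw [hF]; exact hn24 rfl) hEe
      · exact rows.psp h5' h4 hEe
    | psu n w =>
      obtain ⟨E, i1, i2, hF, ⟨e⟩⟩ := hre
      have hEe := hET.congr e
      obtain ⟨hn2, hn24, hpp⟩ := hc
      rcases Nat.lt_or_ge n 4 with h4 | h4
      · obtain rfl : n = 3 := by omega
        have h2 := hpp.two_le
        exact rows.psu_three hF h5 (by omega) hEe
      · exact rows.psu hF h5 h4 hEe
    | oodd n w =>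
      obtain ⟨E, i1, i2, hF, ⟨e⟩⟩ := hre
      have hEe := hET.congr e
      exact rows.oodd (by rw [hF]; exact h5) (by rw [hF]; exact hc.2.1) hc.1 hEe
    | oplus n w =>
      obtain ⟨E, i1, i2, hF, ⟨e⟩⟩ := hre
      have hEe := hET.congr e
      exact rows.oplus (by rw [hF]; exact h5) hc.1 hEe
    | ominus n w =>
      obtain ⟨E, i1, i2, a, b, hF, hab, ⟨e⟩⟩ := hre
      have hEe := hET.congr e
      exact rows.ominus (by rw [hF]; exact h5) hc.1 hab hEe
    | g2 w =>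
      obtain ⟨E, i1, i2, hF, ⟨e⟩⟩ := hre
      exact rows.g2 (by rw [hF]; exact h5) (by rw [hF]; exact hc.1) (hET.congr e)
    | f4 w =>
      obtain ⟨E, i1, i2, hF, ⟨e⟩⟩ := hre
      exact rows.f4 (by rw [hF]; exact h5) (hET.congr e)
    | e6 w =>
      obtain ⟨E, i1, i2, hF, ⟨e⟩⟩ := hre
      exact rows.e6 (by rw [hF]; exact h5) (hET.congr e)
    | e7 w =>
      obtain ⟨E, i1, i2, hF, ⟨e⟩⟩ := hre
      exact rows.e7 (by rw [hF]; exact h5) (hET.congr e)
    | e8 w =>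
      obtain ⟨E, i1, i2, hF, ⟨e⟩⟩ := hre
      exact rows.e8 (by rw [hF]; exact h5) (hET.congr e)
    | te6 w => exact rows.te6 hg h5 hET
    | td4 w => exact rows.td4 hg h5 hET
    | tf4 w => exact rows.tf4 hg hET
    | sz w => exact rows.sz hg hET
    | ree w => exact rows.ree hg hET
    | tits => exact hspor.2 hre
    | _ => exact hspor.1 (sporadic_of_named hT hg (by decide))

/-- **The simple section, `q = 2 ^ m`.** -/
theorem sect_two (rows : Rows2.{u}) {F : Type v} [Field F] [Fintype F] [CharP F 2] {L : Type w} [Group L] [Finite L]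
    (hL : LHyp F L) {G : Type u} [Group G] [Finite G]
    (h : Set.range (orderOf : G → ℕ) = Set.range (orderOf : L → ℕ)) (hX : X2 (Fintype.card F) G)
    {K : Subgroup G} [K.Normal] {S : Subgroup (G ⧸ K)} [S.Normal] (R : Red G K S) :
    Nonempty (↥S ≃* PSp 3 F) ∨ Nonempty (↥S ≃* POmega F (quadFormPlus 4 F)) ∨
      Nonempty (↥S ≃* ↥(Cfsg.Lie.chevG2.group F)) ∨
      (Fintype.card F = 4 ∧ ((∃ (E : Type) (_ : Field E) (_ : Fintype E), Fintype.card E = 13 ∧
          Nonempty (↥S ≃* Matrix.ProjectiveSpecialLinearGroup (Fin 2) E)) ∨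
        ∃ (E : Type) (_ : Field E) (_ : Fintype E), Fintype.card E = 3 ∧
          Nonempty (↥S ≃* ↥(Cfsg.Lie.chevG2.group E)))) := by
  have hq5 := hX.four_le
  have hE := e2_of_red hX R
  obtain ⟨H, hH, N, hN, ⟨t⟩⟩ := exists_factor R
  have hS := R.simple
  have hT : IsSimpleGroup (↥H ⧸ N) := t.isSimpleGroup
  have hna : ¬ IsMulCommutative (↥H ⧸ N) := fun hc => R.nonab ⟨⟨fun x y => by
    obtain ⟨x, rfl⟩ := t.surjective x
    obtain ⟨y, rfl⟩ := t.surjective y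
    rw [← map_mul, ← map_mul, hc.1.1]⟩⟩
  have hET : E2 (Fintype.card F) (↥H ⧸ N) := hE.congr t.symm
  have hsub : H.IsSubnormal := Subgroup.Normal.isSubnormal hH
  -- the prime for S3534
  obtain ⟨r, hr, hra⟩ := exists_ap (q := Fintype.card F) (by omega)
  have hr7 : 7 ≤ r := by
    have h3 := three_dvd_sub_one (q := Fintype.card F) (by omega) hr (hra.mul_right _)
    have h2 := (ap_ne (by omega) hr hra).1
    have h6 := hr.two_le
    by_contra hcon
    have h8 : r = 4 := by omega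
    rw [h8] at hr
    revert hr
    norm_num
  have hrL : r ∣ Nat.card L := by
    obtain ⟨y, hy⟩ := exists_of_range h.symm (order_of_dvd hX.a (hra.trans (ap_dvd_cube (by omega))))
    rw [← hy]
    exact orderOf_dvd_natCard y
  have hfam := hL.families hr hr7 hrL
  have hspor := Cfsg.Agent.S3535.result hfam h H hsub N hT hna
  have halt := Cfsg.Agent.S3534.result hfam h H hsub N hT hna
  obtain ⟨g, hg⟩ := H436.name hna
  by_cases h5 : 2 ∣ par g
  · have hlie := lie_of_par (by norm_num) hg h5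
    have : Fact (Nat.Prime 2) := ⟨by norm_num⟩
    rcases Cfsg.Agent.S3671.result 2 hL h H hsub N hT hna hlie with ⟨E, i1, i2, hE3, ⟨e⟩⟩ | ⟨⟨e⟩⟩ | ⟨⟨e⟩⟩ | ⟨⟨e⟩⟩ | ⟨⟨e⟩⟩
    · exact (Cfsg.Agent.H772.Six.not_psl_two hE3 (hET.congr e)).elim
    · obtain ⟨f⟩ := odd_equiv_psp_three (F := F)
      exact Or.inl ⟨(t.symm.trans e).trans f⟩
    · exact Or.inl ⟨t.symm.trans e⟩
    · exact Or.inr (Or.inl ⟨t.symm.trans e⟩)
    · exact Or.inr (Or.inr (Or.inl ⟨t.symm.trans e⟩))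
  · have hodd : Odd (par g) := Nat.not_even_iff_odd.1 fun h => h5 h.two_dvd
    have hc := hg.cond
    have hre := hg.real
    cases g with
    | alt n => exact absurd hre (halt n)
    | psl n w =>
      obtain ⟨E, i1, i2, hF, ⟨e⟩⟩ := hre
      have hEe := hET.congr e
      have h5' : Odd (Fintype.card E) := by rw [hF]; exact hodd
      obtain ⟨hn2, hn24, -⟩ := hc
      rcases Nat.lt_or_ge n 4 with h4 | h4
      · have : n = 2 ∨ n = 3 := by omega
        rcases this with rfl | rfl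
        · obtain ⟨h6, h7⟩ := rows.psl_two h5' (by rw [hF]; exact hn24 rfl) hEe
          exact Or.inr (Or.inr (Or.inr ⟨h6, Or.inl ⟨E, i1, i2, h7, ⟨t.symm.trans e⟩⟩⟩))
        · exact (rows.psl_three h5' hEe).elim
      · exact (rows.psl h5' h4 hEe).elim
    | psp n w =>
      obtain ⟨E, i1, i2, hF, ⟨e⟩⟩ := hre
      have hEe := hET.congr e
      have h5' : Odd (Fintype.card E) := by rw [hF]; exact hodd
      obtain ⟨hn2, hn24, -⟩ := hc
      rcases Nat.lt_or_ge n 3 with h4 | h4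
      · obtain rfl : n = 2 := by omega
        exact (rows.psp_two h5' (by rw [hF]; exact hn24 rfl) hEe).elim
      · exact (rows.psp h5' h4 hEe).elim
    | psu n w =>
      obtain ⟨E, i1, i2, hF, ⟨e⟩⟩ := hre
      have hEe := hET.congr e
      obtain ⟨hn2, hn24, hpp⟩ := hc
      rcases Nat.lt_or_ge n 4 with h4 | h4
      · obtain rfl : n = 3 := by omega
        have h2 := hpp.two_le
        exact (rows.psu_three hF hodd (by omega) hEe).elim
      · exact (rows.psu hF hodd h4 hEe).elim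
    | oodd n w =>
      obtain ⟨E, i1, i2, hF, ⟨e⟩⟩ := hre
      have hEe := hET.congr e
      exact (rows.oodd (by rw [hF]; exact hodd) hc.1 hEe).elim
    | oplus n w =>
      obtain ⟨E, i1, i2, hF, ⟨e⟩⟩ := hre
      have hEe := hET.congr e
      exact (rows.oplus (by rw [hF]; exact hodd) hc.1 hEe).elim
    | ominus n w =>
      obtain ⟨E, i1, i2, a, b, hF, hab, ⟨e⟩⟩ := hre
      have hEe := hET.congr e
      exact (rows.ominus (by rw [hF]; exact hodd) hc.1 hab hEe).elim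
    | g2 w =>
      obtain ⟨E, i1, i2, hF, ⟨e⟩⟩ := hre
      obtain ⟨h6, h7⟩ := rows.g2 (by rw [hF]; exact hodd) (hET.congr e)
      exact Or.inr (Or.inr (Or.inr ⟨h6, Or.inr ⟨E, i1, i2, h7, ⟨t.symm.trans e⟩⟩⟩))
    | f4 w =>
      obtain ⟨E, i1, i2, hF, ⟨e⟩⟩ := hre
      exact (rows.f4 (by rw [hF]; exact hodd) (hET.congr e)).elim
    | e6 w =>
      obtain ⟨E, i1, i2, hF, ⟨e⟩⟩ := hre
      exact (rows.e6 (by rw [hF]; exact hodd) (hET.congr e)).elim
    | e7 w =>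
      obtain ⟨E, i1, i2, hF, ⟨e⟩⟩ := hre
      exact (rows.e7 (by rw [hF]; exact hodd) (hET.congr e)).elim
    | e8 w =>
      obtain ⟨E, i1, i2, hF, ⟨e⟩⟩ := hre
      exact (rows.e8 (by rw [hF]; exact hodd) (hET.congr e)).elim
    | te6 w => exact (rows.te6 hg hodd hET).elim
    | td4 w => exact (rows.td4 hg hodd hET).elim
    | tf4 w =>
      exfalso
      obtain ⟨m, hm, rfl⟩ := hc
      exact h5 (dvd_pow_self 2 (by omega))
    | sz w =>
      exfalso
      obtain ⟨m, hm, rfl⟩ := hc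
      exact h5 (dvd_pow_self 2 (by omega))
    | ree w => exact (rows.ree hg hET).elim
    | tits => exact absurd hre hspor.2
    | _ => exact absurd (sporadic_of_named hT hg (by decide)) hspor.1

end Cfsg.Agent.H376.Six
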